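import Mathlib
import Groth.Prelude.Def_SekSuwa2
import Groth.Agent.SWTorsorLib.Alg

/-! Approximation of `p^n`-th roots modulo `λ` by elements of the base ring. -/

set_option autoImplicit false
set_option linter.all false

universe u
open scoped TensorProduct

namespace Groth.Agent.GKTorsorLib

variable {R : Type u} [CommRing R] [IsDomain R]

theorem dvd_choose {lam : R} {N : ℕ} (h : SekSuwa.DivCond lam N) (hlam : lam ≠ 0) {j : ℕ} (hj : 0 < j) (hjN : j ≤ N) :
    lam ^ (N - j) ∣ (N.choose j : R) := by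
  obtain ⟨P, hP⟩ := h.2
  have h1 : ((1 + Polynomial.C lam * Polynomial.X) ^ N : Polynomial R).coeff j = lam ^ j * (N.choose j : R) := by
    rw [add_comm, add_pow, Polynomial.finset_sum_coeff, Finset.sum_eq_single j]
    · rw [one_pow, _root_.mul_one, mul_pow, ← map_pow, ← Polynomial.C_eq_natCast, _root_.mul_assoc,
        Polynomial.X_pow_mul_C, ← _root_.mul_assoc, ← map_mul, Polynomial.coeff_C_mul_X_pow,
        if_pos rfl]
    · intro m _ hm
      rw [one_pow, _root_.mul_one, mul_pow, ← map_pow, ← Polynomial.C_eq_natCast, _root_.mul_assoc,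
        Polynomial.X_pow_mul_C, ← _root_.mul_assoc, ← map_mul, Polynomial.coeff_C_mul_X_pow, if_neg (Ne.symm hm)]
    · intro hj'
      exact absurd (Finset.mem_range.2 (Nat.lt_succ_of_le hjN)) hj'
  have e := congrArg (fun q : Polynomial R => q.coeff j) hP
  simp only [Polynomial.coeff_C_mul, Polynomial.coeff_sub, h1, Polynomial.coeff_one, hj.ne', if_false, sub_zero] at e
  refine ⟨P.coeff j, mul_left_cancel₀ (pow_ne_zero j hlam) ?_⟩
  rw [← e, ← _root_.mul_assoc, ← pow_add, Nat.add_sub_cancel' hjN]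

variable {π : R} {l N : ℕ}

/-- The expansion of a power with divisible middle coefficients. -/
theorem exists_pow_expansion (hd : ∀ j, 0 < j → j ≤ N → π ^ (l * (N - j)) ∣ (N.choose j : R)) (hN : 0 < N)
    {B : Type u} [CommRing B] [Algebra R B] (v e : B) {i : ℕ} (hi : i ≤ l) :
    ∃ k, (v + algebraMap R B π ^ i * e) ^ N =
      v ^ N + algebraMap R B π ^ (i * N) * e ^ N + algebraMap R B π ^ (i * N + (l - i)) * k := by
  obtain ⟨M, rfl⟩ : ∃ M, N = M + 1 := ⟨N - 1, by omega⟩
  set q := algebraMap R B π with hq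
  have hdvd : q ^ (i * (M + 1) + (l - i)) ∣
      ∑ m ∈ Finset.range M, (q ^ i * e) ^ (m + 1) * v ^ (M + 1 - (m + 1)) * ((M + 1).choose (m + 1) : B) := by
    refine Finset.dvd_sum fun m hm => ?_
    rw [Finset.mem_range] at hm
    have h1 : q ^ (l * (M + 1 - (m + 1))) ∣ ((M + 1).choose (m + 1) : B) := by
      have := map_dvd (algebraMap R B) (hd (m + 1) m.succ_pos (by omega))
      rwa [map_pow, map_natCast] at this
    have h2 : i * (M + 1) + (l - i) ≤ i * (m + 1) + l * (M + 1 - (m + 1)) := by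
      obtain ⟨d, rfl⟩ := Nat.exists_eq_add_of_le hi
      obtain ⟨r, rfl⟩ : ∃ r, M = m + 1 + r := ⟨M - (m + 1), by omega⟩
      rw [Nat.add_sub_cancel_left, show m + 1 + r + 1 - (m + 1) = r + 1 by omega]
      ring_nf
      omega
    refine dvd_trans (pow_dvd_pow q h2) ?_
    rw [pow_add, mul_pow, ← pow_mul]
    exact mul_dvd_mul (Dvd.dvd.mul_right (dvd_mul_right _ _) _) h1
  obtain ⟨k, hk⟩ := hdvd
  refine ⟨k, ?_⟩
  rw [add_comm v, add_pow, Finset.sum_range_succ, Finset.sum_range_succ', hk]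
  simp only [pow_zero, Nat.sub_zero, Nat.choose_zero_right, Nat.cast_one, Nat.sub_self, Nat.choose_self]
  ring

theorem dvd_of_dvd_map (hπ : Irreducible π) [IsDiscreteValuationRing R] {B : Type u} [CommRing B] [Algebra R B]
    (hreg : IsLeftRegular (algebraMap R B π)) (hu : ¬ IsUnit (algebraMap R B π)) {r : R} {k : ℕ}
    (h : algebraMap R B π ^ k ∣ algebraMap R B r) : π ^ k ∣ r := by
  by_cases hr : r = 0
  · simp [hr]
  obtain ⟨j, u, rfl⟩ := IsDiscreteValuationRing.eq_unit_mul_pow_irreducible hr hπ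
  by_cases hjk : k ≤ j
  · exact (pow_dvd_pow π hjk).mul_left _
  · exfalso
    obtain ⟨b, hb⟩ := h
    obtain ⟨d, rfl⟩ : ∃ d, k = j + (d + 1) := ⟨k - j - 1, by omega⟩
    rw [map_mul, map_pow, pow_add, _root_.mul_assoc, _root_.mul_comm] at hb
    have e := (hreg.pow j) hb
    have hmu : IsUnit (algebraMap R B π ^ (d + 1) * b) := e ▸ u.isUnit.map (algebraMap R B)
    exact hu ((isUnit_pow_iff d.succ_ne_zero).1 (isUnit_of_mul_isUnit_left hmu))

theorem exists_root_mod {p : ℕ} [Fact p.Prime] [IsLocalRing R] [CharP (IsLocalRing.ResidueField R) p]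
    [PerfectField (IsLocalRing.ResidueField R)] (n : ℕ) (d : R) :
    ∃ e : R, e ^ p ^ n - d ∈ IsLocalRing.maximalIdeal R := by
  obtain ⟨x, hx⟩ := (bijective_iterateFrobenius (IsLocalRing.ResidueField R) p n).2 (IsLocalRing.residue R d)
  obtain ⟨e, rfl⟩ := IsLocalRing.residue_surjective x
  refine ⟨e, ?_⟩
  rw [iterateFrobenius_def, ← map_pow] at hx
  rw [← IsLocalRing.residue_eq_zero_iff, map_sub, hx, sub_self]

variable {p : ℕ} [Fact p.Prime] [IsDiscreteValuationRing R] [CharP (IsLocalRing.ResidueField R) p]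

theorem exists_approx [PerfectField (IsLocalRing.ResidueField R)] (hπ : Irreducible π) {n : ℕ}
    (hd : ∀ j, 0 < j → j ≤ p ^ n → π ^ (l * (p ^ n - j)) ∣ ((p ^ n).choose j : R))
    {A B : Type u} [CommRing A] [CommRing B] [Algebra R A] [Algebra R B] [Algebra A B] [IsScalarTower R A B]
    [Module.Flat R A] [Module.FaithfullyFlat A B]
    (hred : ∀ (a : A) (m : ℕ), algebraMap R A π ∣ a ^ m → algebraMap R A π ∣ a)
    (c : R) (u : B) (hc : u ^ p ^ n = algebraMap R B c)
    (hu : ∃ k, u ⊗ₜ[A] (1 : B) = (1 : B) ⊗ₜ[A] u + algebraMap R (B ⊗[A] B) π ^ l * k) :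
    ∃ (v : R) (e : B), u = algebraMap R B v + algebraMap R B π ^ l * e := by
  by_cases hπB : IsUnit (algebraMap R B π)
  · obtain ⟨q, hq⟩ := hπB.pow l
    exact ⟨0, ↑q⁻¹ * u, by rw [map_zero, zero_add, ← hq, Units.mul_inv_cancel_left]⟩
  haveI : Module.Flat R B := Module.Flat.trans R A B
  haveI : Module.Flat R (B ⊗[A] B) := Module.Flat.trans R A (B ⊗[A] B)
  have hπ0 : IsRegular π := IsRegular.of_ne_zero hπ.ne_zero
  have hregB : IsLeftRegular (algebraMap R B π) := fun x y hxy =>
    Module.Flat.isSMulRegular_of_isRegular (M := B) hπ0 (by simpa [Algebra.smul_def] using hxy)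
  have hregT : IsLeftRegular (algebraMap R (B ⊗[A] B) π) := fun x y hxy =>
    Module.Flat.isSMulRegular_of_isRegular (M := B ⊗[A] B) hπ0 (by simpa [Algebra.smul_def] using hxy)
  suffices ∀ i ≤ l, ∃ (v : R) (e : B), u = algebraMap R B v + algebraMap R B π ^ i * e from this l le_rfl
  intro i
  induction i with
  | zero => exact fun _ => ⟨0, u, by simp⟩
  | succ i ih =>
    intro hi
    obtain ⟨v, e, hve⟩ := ih (by omega)
    have hp0 : 0 < p ^ n := pow_pos (Fact.out : p.Prime).pos n
    obtain ⟨k, hk⟩ := exists_pow_expansion hd hp0 (algebraMap R B v) e (show i ≤ l by omega)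
    obtain ⟨s, hs⟩ : ∃ s, l - i = s + 1 := ⟨l - i - 1, by omega⟩
    rw [← hve, hc, hs] at hk
    obtain ⟨d, hdd⟩ : π ^ (i * p ^ n) ∣ c - v ^ p ^ n := by
      refine dvd_of_dvd_map hπ hregB hπB ⟨e ^ p ^ n + algebraMap R B π ^ (s + 1) * k, ?_⟩
      rw [map_sub, map_pow, hk, mul_add, ← _root_.mul_assoc, ← pow_add]
      ring
    have he : e ^ p ^ n + algebraMap R B π ^ (s + 1) * k = algebraMap R B d := by
      refine (hregB.pow (i * p ^ n)) ?_
      show algebraMap R B π ^ (i * p ^ n) * _ = algebraMap R B π ^ (i * p ^ n) * _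
      have := congrArg (algebraMap R B) hdd
      rw [map_sub, map_mul, map_pow, map_pow, hk] at this
      rw [← this, mul_add, ← _root_.mul_assoc, ← pow_add]
      ring
    obtain ⟨e₀, he₀⟩ := exists_root_mod (p := p) n d
    rw [hπ.maximalIdeal_eq, Ideal.mem_span_singleton] at he₀
    let I : Ideal B := Ideal.span {algebraMap R B π}
    have hx : (e - algebraMap R B e₀) ^ p ^ n ∈ I := by
      have hIne : I ≠ ⊤ := fun h => hπB (Ideal.span_singleton_eq_top.1 h)
      haveI : Nontrivial (B ⧸ I) := Ideal.Quotient.nontrivial_iff.2 hIne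
      haveI : CharP (B ⧸ I) p := by
        refine (CharP.charP_iff_prime_eq_zero (Fact.out : p.Prime)).2 ?_
        obtain ⟨w, hw⟩ : π ∣ (p : R) := by
          rw [← Ideal.mem_span_singleton, ← hπ.maximalIdeal_eq, ← IsLocalRing.residue_eq_zero_iff, map_natCast]
          exact CharP.cast_eq_zero _ p
        rw [← map_natCast (Ideal.Quotient.mk I), Ideal.Quotient.eq_zero_iff_mem, Ideal.mem_span_singleton,
          ← map_natCast (algebraMap R B), hw, map_mul]
        exact dvd_mul_right _ _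
      have hπ' : Ideal.Quotient.mk I (algebraMap R B π) = 0 :=
        Ideal.Quotient.eq_zero_iff_mem.2 (Ideal.mem_span_singleton_self _)
      obtain ⟨w, hw⟩ := he₀
      have e1 := congrArg (Ideal.Quotient.mk I) he
      have e2 := congrArg (fun r => Ideal.Quotient.mk I (algebraMap R B r)) hw
      simp only [map_add, map_mul, map_pow, map_sub, hπ', zero_pow s.succ_ne_zero, zero_mul, add_zero] at e1 e2
      rw [← Ideal.Quotient.eq_zero_iff_mem, map_pow, map_sub, sub_pow_char_pow, e1, ← neg_sub, e2, neg_zero]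
    have hdesc : ∃ k', (e - algebraMap R B e₀) ⊗ₜ[A] (1 : B) =
        (1 : B) ⊗ₜ[A] (e - algebraMap R B e₀) + algebraMap R A π • k' := by
      obtain ⟨k', hk'⟩ := hu
      refine ⟨algebraMap R (B ⊗[A] B) π ^ s * k', (hregT.pow i) ?_⟩
      let L : B →ₐ[R] B ⊗[A] B := (Algebra.TensorProduct.includeLeft : B →ₐ[A] B ⊗[A] B).restrictScalars R
      let Rt : B →ₐ[R] B ⊗[A] B := (Algebra.TensorProduct.includeRight : B →ₐ[A] B ⊗[A] B).restrictScalars R
      have e1 : L u = Rt u + algebraMap R (B ⊗[A] B) π ^ l * k' := hk'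
      rw [hve] at e1
      simp only [map_add, map_mul, map_pow, AlgHom.commutes] at e1
      show algebraMap R (B ⊗[A] B) π ^ i * L (e - algebraMap R B e₀) =
        algebraMap R (B ⊗[A] B) π ^ i * (Rt (e - algebraMap R B e₀) + _)
      rw [Algebra.smul_def, ← IsScalarTower.algebraMap_apply, map_sub, map_sub, AlgHom.commutes, AlgHom.commutes]
      rw [show l = i + (s + 1) by omega, pow_add, pow_succ] at e1
      linear_combination e1
    obtain ⟨k', hk'⟩ := hdesc
    obtain ⟨a, w, haw⟩ := SWTorsorLib.exists_eq_add_mul _ _ _ hk'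
    rw [← IsScalarTower.algebraMap_apply] at haw
    have ha : algebraMap A B a ^ p ^ n ∈ I := by
      have e1 := Ideal.Quotient.eq_zero_iff_mem.2 hx
      rw [haw, map_pow, map_add, map_mul, Ideal.Quotient.eq_zero_iff_mem.2 (Ideal.mem_span_singleton_self _),
        zero_mul, add_zero, ← map_pow] at e1
      exact Ideal.Quotient.eq_zero_iff_mem.1 e1
    have ha' : algebraMap R A π ∣ a := by
      refine hred a (p ^ n) ?_
      rw [← Ideal.mem_span_singleton, ← Ideal.comap_map_eq_self_of_faithfullyFlat (B := B) (Ideal.span {algebraMap R A π}),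
        Ideal.mem_comap, Ideal.map_span, Set.image_singleton, ← IsScalarTower.algebraMap_apply, map_pow]
      exact ha
    obtain ⟨a', rfl⟩ := ha'
    refine ⟨v + π ^ i * e₀, algebraMap A B a' + w, ?_⟩
    rw [map_mul, ← IsScalarTower.algebraMap_apply] at haw
    rw [hve, map_add, map_mul, map_pow, pow_succ]
    linear_combination (algebraMap R B π ^ i) * haw

theorem dvd_sub_of_dvd_pow_sub (hπ : Irreducible π) {N : ℕ} (hN : 0 < N)
    (hd : ∀ j, 0 < j → j ≤ N → π ^ (l * (N - j)) ∣ (N.choose j : R)) {v v' : R}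
    (h : π ^ (l * N) ∣ v' ^ N - v ^ N) : π ^ l ∣ v' - v := by
  suffices ∀ i ≤ l, π ^ i ∣ v' - v from this l le_rfl
  intro i
  induction i with
  | zero => simp
  | succ i ih =>
    intro hi
    obtain ⟨e, he⟩ := ih (by omega)
    obtain ⟨k, hk⟩ := exists_pow_expansion hd hN v e (show i ≤ l by omega)
    simp only [Algebra.algebraMap_self, RingHom.id_apply] at hk
    rw [← he, add_sub_cancel] at hk
    obtain ⟨s, hs⟩ : ∃ s, l - i = s + 1 := ⟨l - i - 1, by omega⟩
    have h1 : π ^ (i * N + 1) ∣ v' ^ N - v ^ N := by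
      refine (pow_dvd_pow π ?_).trans h
      have : (i + 1) * N ≤ l * N := Nat.mul_le_mul_right N hi
      rw [Nat.succ_mul] at this
      omega
    obtain ⟨r, hr⟩ := h1
    have h2 : π ∣ e ^ N := by
      refine ⟨r - π ^ s * k, mul_left_cancel₀ (pow_ne_zero (i * N) hπ.ne_zero) ?_⟩
      rw [hk, hs] at hr
      rw [pow_succ] at hr
      rw [show i * N + (s + 1) = i * N + s + 1 by ring, pow_succ, pow_add] at hr
      linear_combination hr
    obtain ⟨e', rfl⟩ := hπ.prime.dvd_of_dvd_pow h2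
    exact ⟨e', by rw [he, pow_succ]; ring⟩

end Groth.Agent.GKTorsorLib
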