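import Groth.Agent.GKTorsorLib.Model
import Groth.Agent.SWTorsorLib.GKGen
import Groth.Agent.SchDesc.TorsorDesc
import Groth.Agent.PrincBundLib.Descends

/-! A `μ_N`-torsor over a local ring is given by an `N`-th root of a unit. -/

set_option autoImplicit false
set_option linter.all false
set_option backward.isDefEq.respectTransparency false
set_option backward.isDefEq.respectTransparency.types false

universe u
open CategoryTheory Limits MonoidalCategory CartesianMonoidalCategory MonObj AlgebraicGeometry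
open scoped TensorProduct
open Groth.Agent.GaPoints (ringMap exists_ringMap ringMap_comp_SpecMap ringMap_injective)
open Groth.Agent.GmTorsor (mor gammaSpec_map base amor)

noncomputable section

namespace Groth.Agent.GKTorsorLib

variable {R : Type u} [CommRing R] {N : ℕ} {T T' : Over (Spec (CommRingCat.of R))}

/-- The function of a point of `μ_N`. -/
def gm (x : T ⟶ Red.diag R (ZMod N)) : Γ(T.left, ⊤) := val x (SWTorsorLib.gen R N)

theorem gm_comp (p : T' ⟶ T) (x : T ⟶ Red.diag R (ZMod N)) : gm (p ≫ x) = p.left.appTop (gm x) := val_comp p x _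

theorem gm_mul (x y : T ⟶ Red.diag R (ZMod N)) : gm (x * y) = gm x * gm y :=
  val_mul_groupLike x y _ (by simp [SWTorsorLib.gen])

theorem gm_pow (x : T ⟶ Red.diag R (ZMod N)) : gm x ^ N = 1 := by
  rw [gm, ← map_pow, SWTorsorLib.gen_pow, ZMod.natCast_self]
  exact map_one _

theorem gm_alphaN {lam : R} {h : SekSuwa.DivCond lam N} (x : T ⟶ SekSuwa.GK R lam N h) :
    gm (x ≫ SekSuwa.alphaN R lam N h) = 1 + str T lam * tv x := by
  have e : (x ≫ SekSuwa.alphaN R lam N h).left = x.left ≫ Spec.map (CommRingCat.ofHom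
      (SekSuwa.alphaNHom R lam N h : MonoidAlgebra R (Multiplicative (ZMod N)) →+* SekSuwa.AK R lam N h)) := by
    simp [SekSuwa.alphaN, SekSuwa.specHom]
    rfl
  rw [gm, val, e, ringMap_comp_SpecMap]
  show val x (SekSuwa.alphaNHom R lam N h (SWTorsorLib.gen R N)) = _
  rw [SekSuwa.alphaNHom_single_one, map_add, map_one, Algebra.smul_def, map_mul, val_algebraMap]
  rfl

theorem torsor_props [NeZero N] {Q : Over (Spec (CommRingCat.of R))} (b : AlgGrp.Action (Red.diag R (ZMod N)) Q)
    (hQ : NonAbH1.IsTorsorFor Scheme.fppfPrecoverage b) : IsFinite Q.hom ∧ Flat Q.hom ∧ Surjective Q.hom := by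
  haveI := Groth.Agent.FpqcDesc.isFinite_descends.{u}
  have h : NonAbH1.IsTorsorFor Scheme.fpqcPrecoverage b :=
    ⟨hQ.1, hQ.2.imp fun R hR => ⟨Scheme.fppfPrecoverage_le_fpqcPrecoverage _ hR.1, hR.2⟩⟩
  obtain ⟨h1, h2⟩ := SWTorsorLib.isFinite_mu (R := R) (N := N)
  obtain ⟨T, σ, hT, hX⟩ := TorsorDesc.exists_trivializing b h
  haveI : SchDesc.IsFpqc T.hom := hT
  haveI : IsZariskiLocalAtTarget (@Flat : MorphismProperty Scheme.{u}) :=
    HasRingHomProperty.instIsZariskiLocalAtTarget _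
  exact ⟨PrincBundLib.property_of_torsor @IsFinite b h h1,
    TorsorDesc.prop_of_isFpqc (@Flat : MorphismProperty Scheme.{u}) inferInstance Q.hom T.hom (hX _ h2),
    ⟨fun s => by
      obtain ⟨t, rfl⟩ := T.hom.surjective s
      exact ⟨σ.left t, by rw [← Scheme.Hom.comp_apply, Over.w σ]⟩⟩⟩

theorem isUnit_of_map {B : Type u} [CommRing B] [Algebra R B] [Module.FaithfullyFlat R B] {c : R}
    (hc : IsUnit (algebraMap R B c)) : IsUnit c := by
  rw [← Ideal.span_singleton_eq_top, ← Ideal.comap_map_eq_self_of_faithfullyFlat (B := B) (Ideal.span ({c} : Set R)),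
    Ideal.map_span, Set.image_singleton, Ideal.span_singleton_eq_top.2 hc, Ideal.comap_top]

theorem ringMap_isoSpec {Y : Scheme.{u}} [IsAffine Y] {B : Type u} [CommRing B] (e : Γ(Y, ⊤) = CommRingCat.of B)
    (z : Γ(Y, ⊤)) : ringMap (R := Γ(Y, ⊤)) Y.isoSpec.hom z = z := by
  show ((Scheme.ΓSpecIso Γ(Y, ⊤)).inv ≫ Y.toSpecΓ.appTop).hom z = z
  rw [Scheme.toSpecΓ_appTop, Iso.inv_hom_id]
  rfl

set_option maxHeartbeats 800000 in
theorem exists_root_fn [IsLocalRing R] [NeZero N] {Q : Over (Spec (CommRingCat.of R))}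
    (b : AlgGrp.Action (Red.diag R (ZMod N)) Q) (hQ : NonAbH1.IsTorsorFor Scheme.fppfPrecoverage b) :
    ∃ (w : Γ(Q.left, ⊤)) (c : R), IsUnit c ∧ w ^ N = str Q c ∧
      ∀ (T : Over (Spec (CommRingCat.of R))) (g : T ⟶ Red.diag R (ZMod N)) (x : T ⟶ Q),
        (lift g x ≫ b.act).left.appTop w = gm g * x.left.appTop w := by
  obtain ⟨hfin, hflat, hsurj⟩ := torsor_props b hQ
  haveI : IsAffine Q.left := isAffine_of_isAffineHom Q.hom
  let B : Type u := Γ(Q.left, ⊤)
  letI : Algebra R B := (str Q).toAlgebra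
  let S := Spec (CommRingCat.of R)
  let j : S ⟶ S := 𝟙 S
  have hk : Q.left.isoSpec.hom ≫ base j B = Q.hom := by
    refine ringMap_injective (RingHom.ext fun r => ?_)
    rw [show base j B = Spec.map (CommRingCat.ofHom (algebraMap R B)) from Category.comp_id _, ringMap_comp_SpecMap]
    exact ringMap_isoSpec (B := B) rfl _
  let k : Q ⟶ Over.mk (base j B) := Over.homMk Q.left.isoSpec.hom hk
  let x₀ : Over.mk (base j B) ⟶ Q := Over.homMk Q.left.isoSpec.inv (by
    rw [Iso.inv_comp_eq]; exact hk.symm)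
  have hkx : k ≫ x₀ = 𝟙 Q := Over.OverMorphism.ext Q.left.isoSpec.hom_inv_id
  haveI : Module.FaithfullyFlat R B := by
    have hff : (algebraMap R B).FaithfullyFlat := by
      rw [RingHom.FaithfullyFlat.iff_flat_and_comap_surjective]
      haveI : Flat (base j B) := by
        rw [show base j B = Q.left.isoSpec.inv ≫ Q.hom by rw [← hk, Iso.inv_hom_id_assoc]]
        infer_instance
      haveI : Surjective (base j B) := by
        rw [show base j B = Q.left.isoSpec.inv ≫ Q.hom by rw [← hk, Iso.inv_hom_id_assoc]]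
        infer_instance
      have e : base j B = Spec.map (CommRingCat.ofHom (algebraMap R B)) := Category.comp_id _
      constructor
      · exact (HasRingHomProperty.Spec_iff (P := @Flat)).1 (e ▸ (inferInstance : Flat (base j B)))
      · exact (e ▸ (inferInstance : Surjective (base j B))).surj
    exact RingHom.faithfullyFlat_algebraMap_iff.1 hff
  obtain ⟨g, hg, hcoc⟩ := GmTorsor.exists_cocycle b hQ.1 j x₀
  let V : ∀ (C : Type u) [CommRing C] [Algebra R C] (q : Over.mk (base j C) ⟶ Red.diag R (ZMod N)), C :=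
    fun C _ _ q => (Scheme.ΓSpecIso (CommRingCat.of C)).hom (gm q)
  have hV : ∀ (C C' : Type u) [CommRing C] [Algebra R C] [CommRing C'] [Algebra R C'] (ψ : C →ₐ[R] C')
      (q : Over.mk (base j C) ⟶ Red.diag R (ZMod N)), V C' (amor j ψ ≫ q) = ψ (V C q) := fun C C' _ _ _ _ ψ q => by
    show (Scheme.ΓSpecIso (CommRingCat.of C')).hom (gm (amor j ψ ≫ q)) = _
    rw [gm_comp]
    exact gammaSpec_map _ _
  let u := V _ g
  have huN : u ^ N = 1 := by
    show ((Scheme.ΓSpecIso (CommRingCat.of (B ⊗[R] B))).hom (gm g)) ^ N = 1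
    rw [← map_pow, gm_pow, map_one]
  have hv : u * u ^ (N - 1) = 1 := by rw [← pow_succ', Nat.sub_add_cancel (NeZero.pos N), huN]
  have hc1 := congrArg (V _) hcoc
  have hmul : ∀ (C : Type u) [CommRing C] [Algebra R C] (q q' : Over.mk (base j C) ⟶ Red.diag R (ZMod N)),
      V C (q * q') = V C q * V C q' := fun C _ _ q q' => by
    show (Scheme.ΓSpecIso (CommRingCat.of C)).hom (gm (q * q')) = _
    rw [gm_mul, map_mul]
  rw [hmul, hV, hV, hV] at hc1
  obtain ⟨a, m, m', ha, hm, hmm⟩ := GmTorsor.exists_trivializing u _ hv hc1 (IsLocalRing.maximalIdeal R)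
  have hmu : IsUnit m := isUnit_of_mul_isUnit_left (y := m') (hmm ▸ (IsLocalRing.notMem_maximalIdeal.1 ha).map (algebraMap R B))
  obtain ⟨mu, hmu'⟩ := hmu
  let iL : B →ₐ[R] B ⊗[R] B := Algebra.TensorProduct.includeLeft
  let iR : B →ₐ[R] B ⊗[R] B := Algebra.TensorProduct.includeRight
  let w : B := ↑mu⁻¹
  have hw : iR w = u * iL w := by
    have hm' : u * iR m = iL m := hm
    have e1 : iR m * iR w = 1 := by rw [← map_mul, ← hmu', Units.mul_inv, map_one]
    have e2 : iL m * iL w = 1 := by rw [← map_mul, ← hmu', Units.mul_inv, map_one]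
    linear_combination (-iR w) * e2 + u * iL w * e1 - iR w * iL w * hm'
  obtain ⟨c, hc⟩ := GmTorsor.exists_algebraMap_eq (A := R) (w ^ N) (by
    show iR (w ^ N) = iL (w ^ N)
    rw [map_pow, map_pow, hw, mul_pow, huN, _root_.one_mul])
  refine ⟨w, c, isUnit_of_map (B := B) (hc ▸ (mu⁻¹).isUnit.pow N), hc.symm, fun T g' x' => ?_⟩
  let y' := lift g' x' ≫ b.act
  have hp := isPullback_SpecMap_of_isPushout _ _ _ _ (CommRingCat.isPushout_tensorProduct R B B)
  have hxy : (x' ≫ k).left ≫ Spec.map (CommRingCat.ofHom (algebraMap R B)) =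
      (y' ≫ k).left ≫ Spec.map (CommRingCat.ofHom (algebraMap R B)) := by
    have e1 := Over.w (x' ≫ k)
    have e2 := Over.w (y' ≫ k)
    simp only [Over.mk_hom, base, j, Category.comp_id] at e1 e2
    exact e1.trans e2.symm
  let r₀ := hp.lift (x' ≫ k).left (y' ≫ k).left hxy
  have hr₁ : r₀ ≫ Spec.map (CommRingCat.ofHom iL.toRingHom) = (x' ≫ k).left := hp.lift_fst _ _ _
  have hr₂ : r₀ ≫ Spec.map (CommRingCat.ofHom iR.toRingHom) = (y' ≫ k).left := hp.lift_snd _ _ _
  let r : T ⟶ Over.mk (base j (B ⊗[R] B)) := Over.homMk r₀ (by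
    rw [← Over.w (x' ≫ k), ← hr₁]
    simp only [Over.mk_hom, ← GmTorsor.base_comm j iL, Category.assoc])
  have e1 : r ≫ amor j iL ≫ x₀ = x' := by
    rw [← Category.assoc, show r ≫ amor j iL = x' ≫ k from Over.OverMorphism.ext hr₁, Category.assoc, hkx,
      Category.comp_id]
  have e2 : r ≫ amor j iR ≫ x₀ = y' := by
    rw [← Category.assoc, show r ≫ amor j iR = y' ≫ k from Over.OverMorphism.ext hr₂, Category.assoc, hkx,
      Category.comp_id]
  have eg : r ≫ g = g' := (GmTorsor.existsUnique_act b hQ.1 x' y').unique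
    (by rw [← e1, ← GmTorsor.comp_act, hg, e2]) rfl
  have hfn : ∀ (z : T ⟶ Q) (z' : B), z.left.appTop z' = ringMap (R := CommRingCat.of B) (z ≫ k).left z' :=
    fun z z' => by
      conv_lhs => rw [← ringMap_isoSpec (B := B) rfl z']
      simp [k, ringMap, B]
      rfl
  have hgm : gm g' = ringMap (R := CommRingCat.of (B ⊗[R] B)) r₀ u := by
    rw [← eg, gm_comp]
    simp [u, V, ringMap, r]
  show y'.left.appTop w = _
  rw [hfn, hfn, ← hr₁, ← hr₂, ringMap_comp_SpecMap, ringMap_comp_SpecMap, hgm, ← map_mul]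
  exact congrArg _ hw

end Groth.Agent.GKTorsorLib
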