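import Groth.Agent.GKTorsorLib.Approx
import Groth.Agent.GKTorsorLib.Mu
import Groth.Agent.SWTorsorLib.GenConst

/-! Charts, and gluing of coordinates over a flat base. -/

set_option autoImplicit false
set_option linter.all false
set_option backward.isDefEq.respectTransparency false
set_option backward.isDefEq.respectTransparency.types false

universe u
open CategoryTheory Limits AlgebraicGeometry
open scoped TensorProduct
open Groth.Agent.GaPoints (ringMap exists_ringMap ringMap_comp_SpecMap ringMap_injective)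

noncomputable section

namespace Groth.Agent.GKTorsorLib

/-- The value of a function at a point with values in a ring. -/
def ev {Y : Scheme.{u}} {B : Type u} [CommRing B] (e : Spec (CommRingCat.of B) ⟶ Y) : Γ(Y, ⊤) →+* B :=
  (Scheme.ΓSpecIso (CommRingCat.of B)).hom.hom.comp e.appTop.hom

theorem ev_comp {Y : Scheme.{u}} {B C : Type u} [CommRing B] [CommRing C] (e : Spec (CommRingCat.of B) ⟶ Y)
    (ψ : B →+* C) (z : Γ(Y, ⊤)) : ev (Spec.map (CommRingCat.ofHom ψ) ≫ e) z = ψ (ev e z) := by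
  rw [ev, Scheme.Hom.comp_appTop]
  exact GmTorsor.gammaSpec_map ψ _

theorem ev_ringMap {Y : Scheme.{u}} {R B : Type u} [CommRing R] [CommRing B] (e : Spec (CommRingCat.of B) ⟶ Y)
    (q : Y ⟶ Spec (CommRingCat.of R)) (φ : R →+* B) (h : e ≫ q = Spec.map (CommRingCat.ofHom φ)) (r : R) :
    ev e (ringMap (R := CommRingCat.of R) q r) = φ r := by
  have e1 : ev e (ringMap (R := CommRingCat.of R) q r) =
      (Scheme.ΓSpecIso (CommRingCat.of B)).hom (ringMap (R := CommRingCat.of R) (e ≫ q) r) := by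
    simp [ev, ringMap]
  rw [e1, h]
  show (Scheme.ΓSpecIso (CommRingCat.of B)).hom ((Spec.map (CommRingCat.ofHom φ)).appTop
    ((Scheme.ΓSpecIso (CommRingCat.of R)).inv r)) = φ r
  exact (GmTorsor.gammaSpec_map φ _).trans
    (congrArg φ (ConcreteCategory.congr_hom (Scheme.ΓSpecIso (CommRingCat.of R)).inv_hom_id r))

theorem ev_injective {Y : Scheme.{u}} {B : Type u} [CommRing B] (e : Spec (CommRingCat.of B) ⟶ Y) {z z' : Γ(Y, ⊤)}
    (h : ev e z = ev e z') : e.appTop z = e.appTop z' :=
  (ConcreteCategory.bijective_of_isIso (Scheme.ΓSpecIso (CommRingCat.of B)).hom).1 h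

variable {R : Type u} [CommRing R]

theorem eq_zero_of_ringMap_mul [IsDomain R] {Y : Scheme.{u}} (q : Y ⟶ Spec (CommRingCat.of R)) [Flat q] {r : R}
    (hr : r ≠ 0) {z : Γ(Y, ⊤)} (h : ringMap (R := CommRingCat.of R) q r * z = 0) : z = 0 := by
  refine Scheme.zero_of_zero_cover z Y.affineCover fun i => ?_
  let G : Over (Spec (CommRingCat.of R)) := Over.mk (Y.affineCover.f i ≫ q)
  haveI : IsAffine G.left := inferInstanceAs (IsAffine (Y.affineCover.X i))
  haveI : Flat G.hom := inferInstanceAs (Flat (Y.affineCover.f i ≫ q))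
  have hflat := SWTorsorLib.flat_ringMap (G := G)
  letI := (ringMap (R := CommRingCat.of R) G.hom).toAlgebra
  haveI : Module.Flat R Γ(G.left, ⊤) := hflat
  have e : ringMap (R := CommRingCat.of R) G.hom r = (Y.affineCover.f i).appTop (ringMap (R := CommRingCat.of R) q r) := by
    simp [G, ringMap]
  have h2 := congrArg (Y.affineCover.f i).appTop.hom h
  rw [map_mul, map_zero] at h2
  let zi : Γ(G.left, ⊤) := (Y.affineCover.f i).appTop z
  show zi = 0
  refine Module.Flat.isSMulRegular_of_isRegular (M := Γ(G.left, ⊤)) (IsRegular.of_ne_zero hr) ?_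
  show r • zi = r • (0 : Γ(G.left, ⊤))
  rw [smul_zero, Algebra.smul_def]
  exact (congrArg (fun t : Γ(G.left, ⊤) => t * zi) e).trans h2

theorem dvd_of_dvd_pow_of_isReduced [IsDomain R] [IsDiscreteValuationRing R] {π : R} (hπ : Irreducible π) {X : Scheme.{u}}
    (f : X ⟶ Spec (CommRingCat.of R))
    [IsReduced (pullback f (Spec.map (CommRingCat.ofHom (IsLocalRing.residue R))))]
    {A : Type u} [CommRing A] [Algebra R A] (j : Spec (CommRingCat.of A) ⟶ X) [IsOpenImmersion j]
    (hj : j ≫ f = Spec.map (CommRingCat.ofHom (algebraMap R A))) (a : A) (m : ℕ) (h : algebraMap R A π ∣ a ^ m) :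
    algebraMap R A π ∣ a := by
  let k := IsLocalRing.ResidueField R
  let T := Spec.map (CommRingCat.ofHom (algebraMap R k))
  let i₀ : pullback (Spec.map (CommRingCat.ofHom (algebraMap R A))) T ⟶
      pullback f (Spec.map (CommRingCat.ofHom (IsLocalRing.residue R))) :=
    pullback.map _ _ _ _ j (𝟙 _) (𝟙 _) (by rw [Category.comp_id, hj]) (by rw [Category.comp_id, Category.id_comp]; rfl)
  haveI : IsReduced (Spec (CommRingCat.of (A ⊗[R] k))) :=
    isReduced_of_isOpenImmersion ((pullbackSpecIso R A k).inv ≫ i₀)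
  haveI : _root_.IsReduced (A ⊗[R] k) := (affine_isReduced_iff (CommRingCat.of (A ⊗[R] k))).1 ‹_›
  have hπ0 : algebraMap R k π = 0 :=
    (IsLocalRing.residue_eq_zero_iff π).2 ((IsLocalRing.mem_maximalIdeal π).2 hπ.not_isUnit)
  let L : A →ₐ[R] A ⊗[R] k := Algebra.TensorProduct.includeLeft
  have hL : L (algebraMap R A π) = 0 := by
    rw [AlgHom.commutes, ← (Algebra.TensorProduct.includeRight : k →ₐ[R] A ⊗[R] k).commutes, hπ0, map_zero]
  have ha : L a = 0 := by
    refine IsReduced.eq_zero _ ⟨m, ?_⟩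
    obtain ⟨b, hb⟩ := h
    rw [← map_pow, hb, map_mul, hL, zero_mul]
  let I : Ideal A := Ideal.span {algebraMap R A π}
  let φ : k →ₐ[R] A ⧸ I :=
    { Ideal.Quotient.lift (IsLocalRing.maximalIdeal R) ((Ideal.Quotient.mk I).comp (algebraMap R A)) (fun r hr => by
        rw [hπ.maximalIdeal_eq, Ideal.mem_span_singleton] at hr
        exact Ideal.Quotient.eq_zero_iff_mem.2 (Ideal.mem_span_singleton.2 (map_dvd _ hr))) with
      commutes' := fun r => rfl }
  have e := congrArg (Algebra.TensorProduct.lift (Ideal.Quotient.mkₐ R I) φ fun _ _ => Commute.all _ _) ha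
  simp only [L, Algebra.TensorProduct.includeLeft_apply, Algebra.TensorProduct.lift_tmul, map_one, _root_.mul_one,
    map_zero] at e
  exact Ideal.mem_span_singleton.1 (Ideal.Quotient.eq_zero_iff_mem.1 e)

theorem exists_chart {X : Scheme.{u}} (P : Over X) [IsAffineHom P.hom] [Flat P.hom] [Surjective P.hom] (x : X) :
    ∃ (A B : Type u) (_ : CommRing A) (_ : CommRing B) (_ : Algebra A B) (_ : Module.FaithfullyFlat A B)
      (j : Spec (CommRingCat.of A) ⟶ X) (e : Spec (CommRingCat.of B) ⟶ P.left),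
        IsOpenImmersion j ∧ IsOpenImmersion e ∧ e ≫ P.hom = Spec.map (CommRingCat.ofHom (algebraMap A B)) ≫ j ∧
        x ∈ Set.range j ∧ ∀ p : P.left, P.hom p = x → p ∈ Set.range e := by
  obtain ⟨U, hU, hxU, -⟩ := exists_isAffineOpen_mem_and_subset (x := x) (U := ⊤) trivial
  let W := pullback P.hom hU.fromSpec
  haveI : IsAffineHom (pullback.snd P.hom hU.fromSpec) := MorphismProperty.pullback_snd _ _ inferInstance
  haveI : IsAffine W := isAffine_of_isAffineHom (pullback.snd P.hom hU.fromSpec)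
  let w : Spec Γ(W, ⊤) ⟶ Spec Γ(X, U) := W.isoSpec.inv ≫ pullback.snd P.hom hU.fromSpec
  haveI : Flat (pullback.snd P.hom hU.fromSpec) := MorphismProperty.pullback_snd _ _ inferInstance
  haveI : Surjective (pullback.snd P.hom hU.fromSpec) := MorphismProperty.pullback_snd _ _ inferInstance
  haveI hfl : Flat w := inferInstance
  haveI hsu : Surjective w := inferInstance
  let φ := Spec.preimage w
  have hφ : Spec.map φ = w := Spec.map_preimage w
  letI : Algebra Γ(X, U) Γ(W, ⊤) := φ.hom.toAlgebra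
  have hff : φ.hom.FaithfullyFlat := by
    rw [RingHom.FaithfullyFlat.iff_flat_and_comap_surjective]
    rw [← hφ] at hfl hsu
    exact ⟨(HasRingHomProperty.Spec_iff (P := @Flat)).mp hfl, hsu.surj⟩
  haveI : Module.FaithfullyFlat Γ(X, U) Γ(W, ⊤) := hff
  refine ⟨Γ(X, U), Γ(W, ⊤), inferInstance, inferInstance, inferInstance, this, hU.fromSpec,
    W.isoSpec.inv ≫ pullback.fst P.hom hU.fromSpec, inferInstance, inferInstance, ?_,
    by erw [hU.range_fromSpec]; exact hxU, fun p hp => ?_⟩
  · change _ = Spec.map φ ≫ hU.fromSpec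
    rw [hφ, Category.assoc, Category.assoc, pullback.condition]
  · obtain ⟨q, hq⟩ : p ∈ Set.range (pullback.fst P.hom hU.fromSpec) := by
      rw [Scheme.Pullback.range_fst]
      erw [Set.mem_preimage, hU.range_fromSpec]
      rw [hp]
      exact hxU
    obtain ⟨q', rfl⟩ := W.isoSpec.inv.surjective q
    exact ⟨q', by rw [← hq, ← Scheme.Hom.comp_apply]; rfl⟩

/-- Coordinates `u = v₀(1 + λ z)` glue, `λ` being regular on flat schemes. -/
theorem exists_glue [IsDomain R] {Y : Scheme.{u}} (q : Y ⟶ Spec (CommRingCat.of R)) [Flat q] {lam v₀ : R}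
    (hlam : lam ≠ 0) (hv : IsUnit v₀) (w : Γ(Y, ⊤)) (𝒰 : Y.OpenCover)
    (h : ∀ i, ∃ z : Γ(𝒰.X i, ⊤), (𝒰.f i).appTop w =
      ringMap (R := CommRingCat.of R) (𝒰.f i ≫ q) v₀ * (1 + ringMap (R := CommRingCat.of R) (𝒰.f i ≫ q) lam * z)) :
    ∃ z : Γ(Y, ⊤), w = ringMap (R := CommRingCat.of R) q v₀ * (1 + ringMap (R := CommRingCat.of R) q lam * z) := by
  choose z hz using h
  choose m hm using fun i => exists_ringMap (R := CommRingCat.of (Polynomial R))
    (Polynomial.eval₂RingHom (ringMap (R := CommRingCat.of R) (𝒰.f i ≫ q)) (z i))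
  have hpb : ∀ {Z Z' : Scheme.{u}} (p : Z' ⟶ Z) (t : Z ⟶ Spec (CommRingCat.of R)) (r : R),
      p.appTop (ringMap (R := CommRingCat.of R) t r) = ringMap (R := CommRingCat.of R) (p ≫ t) r := fun p t r => by
    simp [ringMap]
  have hcompat : ∀ i j, pullback.fst (𝒰.f i) (𝒰.f j) ≫ m i = pullback.snd (𝒰.f i) (𝒰.f j) ≫ m j := fun i j => by
    refine ringMap_injective ?_
    have e1 : ∀ r, ringMap (R := CommRingCat.of (Polynomial R)) (pullback.fst (𝒰.f i) (𝒰.f j) ≫ m i) r =
        (pullback.fst (𝒰.f i) (𝒰.f j)).appTop (Polynomial.eval₂RingHom (ringMap (R := CommRingCat.of R) (𝒰.f i ≫ q)) (z i) r) :=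
      fun r => by
        rw [← hm i]
        simp [ringMap]
    have e2 : ∀ r, ringMap (R := CommRingCat.of (Polynomial R)) (pullback.snd (𝒰.f i) (𝒰.f j) ≫ m j) r =
        (pullback.snd (𝒰.f i) (𝒰.f j)).appTop (Polynomial.eval₂RingHom (ringMap (R := CommRingCat.of R) (𝒰.f j ≫ q)) (z j) r) :=
      fun r => by
        rw [← hm j]
        simp [ringMap]
    let t := pullback.fst (𝒰.f i) (𝒰.f j) ≫ 𝒰.f i ≫ q
    haveI : Flat t := inferInstance
    have hC : ∀ r, (pullback.fst (𝒰.f i) (𝒰.f j)).appTop (ringMap (R := CommRingCat.of R) (𝒰.f i ≫ q) r) =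
        (pullback.snd (𝒰.f i) (𝒰.f j)).appTop (ringMap (R := CommRingCat.of R) (𝒰.f j ≫ q) r) := fun r => by
      rw [hpb, hpb, pullback.condition_assoc]
    refine Polynomial.ringHom_ext (fun r => ?_) ?_
    · erw [e1, e2]
      simp only [Polynomial.coe_eval₂RingHom, Polynomial.eval₂_C]
      exact hC r
    · erw [e1, e2]
      simp only [Polynomial.coe_eval₂RingHom, Polynomial.eval₂_X]
      have hw : (pullback.fst (𝒰.f i) (𝒰.f j)).appTop ((𝒰.f i).appTop w) =
          (pullback.snd (𝒰.f i) (𝒰.f j)).appTop ((𝒰.f j).appTop w) := by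
        have := congrArg (fun g : pullback (𝒰.f i) (𝒰.f j) ⟶ Y => g.appTop w) (pullback.condition (f := 𝒰.f i) (g := 𝒰.f j))
        simpa using this
      rw [hz i, hz j, map_mul, map_mul, map_add, map_add, map_one, map_one, map_mul, map_mul,
        ← hC v₀, ← hC lam, hpb, hpb] at hw
      have e3 := (hv.map (ringMap (R := CommRingCat.of R) t)).mul_left_cancel hw
      exact sub_eq_zero.1 (eq_zero_of_ringMap_mul t hlam (by linear_combination e3))
  let g := 𝒰.glueMorphisms m hcompat
  refine ⟨ringMap (R := CommRingCat.of (Polynomial R)) g Polynomial.X, 𝒰.ext_elem _ _ fun i => ?_⟩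
  have e : (𝒰.f i).appTop (ringMap (R := CommRingCat.of (Polynomial R)) g Polynomial.X) = z i := by
    have : ringMap (R := CommRingCat.of (Polynomial R)) (𝒰.f i ≫ g) Polynomial.X = z i := by
      rw [Scheme.Cover.ι_glueMorphisms, hm i]
      exact Polynomial.eval₂_X _ _
    rw [← this]
    simp [ringMap]
  show (𝒰.f i).appTop w = (𝒰.f i).appTop _
  rw [map_mul, map_add, map_one, map_mul, e, hpb, hpb]
  exact hz i

end Groth.Agent.GKTorsorLib
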