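import Groth.Agent.GKTorsorLib.Chart

/-! A function which is multiplied by elements congruent to `1` modulo `λ` is a constant times `1 + λ z`. -/

set_option autoImplicit false
set_option linter.all false
set_option backward.isDefEq.respectTransparency false
set_option backward.isDefEq.respectTransparency.types false

universe u
open CategoryTheory Limits AlgebraicGeometry
open scoped TensorProduct
open Groth.Agent.GaPoints (ringMap)
open Groth.Agent.GmTorsor (base amor)

noncomputable section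

namespace Groth.Agent.GKTorsorLib

variable {R : Type u} [CommRing R] [IsDomain R] [IsDiscreteValuationRing R] {p : ℕ} [Fact p.Prime]
  [CharP (IsLocalRing.ResidueField R) p] [PerfectField (IsLocalRing.ResidueField R)] {n l : ℕ} {π : R}
  {X : Scheme.{u}} {f : X ⟶ Spec (CommRingCat.of R)} {P : Over X}

set_option maxHeartbeats 800000 in
theorem chart_approx (hπ : Irreducible π)
    (hd : ∀ j, 0 < j → j ≤ p ^ n → π ^ (l * (p ^ n - j)) ∣ ((p ^ n).choose j : R))
    [Flat f] [IsReduced (pullback f (Spec.map (CommRingCat.ofHom (IsLocalRing.residue R))))]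
    (c : R) (w : Γ(P.left, ⊤)) (hw : w ^ p ^ n = ringMap (R := CommRingCat.of R) (P.hom ≫ f) c)
    (htr : ∀ (T : Over X) (x y : T ⟶ P), ∃ k, y.left.appTop w =
      x.left.appTop w * (1 + ringMap (R := CommRingCat.of R) (T.hom ≫ f) (π ^ l) * k))
    {A B : Type u} [CommRing A] [CommRing B] [Algebra R A] [Algebra R B] [Algebra A B] [IsScalarTower R A B]
    [Module.FaithfullyFlat A B] (j : Spec (CommRingCat.of A) ⟶ X) [IsOpenImmersion j]
    (hj : j ≫ f = Spec.map (CommRingCat.ofHom (algebraMap R A)))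
    (e : Spec (CommRingCat.of B) ⟶ P.left) (he : e ≫ P.hom = Spec.map (CommRingCat.ofHom (algebraMap A B)) ≫ j) :
    ∃ v : R, (¬ IsUnit (algebraMap R B π) → π ^ (l * p ^ n) ∣ c - v ^ p ^ n) ∧
      ∃ e' : B, ev e w = algebraMap R B v + algebraMap R B π ^ l * e' := by
  haveI : Module.Flat R A := by
    have h : Flat (Spec.map (CommRingCat.ofHom (algebraMap R A))) := hj ▸ inferInstance
    exact RingHom.flat_algebraMap_iff.1 ((HasRingHomProperty.Spec_iff (P := @Flat)).1 h)
  have hbase : ∀ (C : Type u) [CommRing C] [Algebra R C] [Algebra A C] [IsScalarTower R A C],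
      base j C ≫ f = Spec.map (CommRingCat.ofHom (algebraMap R C)) := fun C _ _ _ _ => by
    rw [base, Category.assoc, hj, ← Spec.map_comp, ← CommRingCat.ofHom_comp, ← IsScalarTower.algebraMap_eq]
  have hstr : ∀ r, ev e (ringMap (R := CommRingCat.of R) (P.hom ≫ f) r) = algebraMap R B r := fun r =>
    ev_ringMap e _ _ (by rw [reassoc_of% he, ← hbase B, base, Category.assoc]) r
  have hwB : ev e w ^ p ^ n = algebraMap R B c := by rw [← map_pow, hw, hstr]
  have hred := fun a m => dvd_of_dvd_pow_of_isReduced hπ f j hj a m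
  let iL : B →ₐ[A] B ⊗[A] B := Algebra.TensorProduct.includeLeft
  let iR : B →ₐ[A] B ⊗[A] B := Algebra.TensorProduct.includeRight
  let e₀ : Over.mk (base j B) ⟶ P := Over.homMk e he
  obtain ⟨k, hk⟩ := htr _ (amor j iR ≫ e₀) (amor j iL ≫ e₀)
  have hu : ∃ k, ev e w ⊗ₜ[A] (1 : B) = (1 : B) ⊗ₜ[A] ev e w + algebraMap R (B ⊗[A] B) π ^ l * k := by
    have hψ : ∀ ψ : B →ₐ[A] B ⊗[A] B, (Scheme.ΓSpecIso (CommRingCat.of (B ⊗[A] B))).hom
        ((amor j ψ ≫ e₀).left.appTop w) = ψ (ev e w) := fun ψ => ev_comp e ψ.toRingHom w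
    have hπ' : (Scheme.ΓSpecIso (CommRingCat.of (B ⊗[A] B))).hom
        (ringMap (R := CommRingCat.of R) ((Over.mk (base j (B ⊗[A] B))).hom ≫ f) (π ^ l)) =
        algebraMap R (B ⊗[A] B) (π ^ l) := by
      have := ev_ringMap (𝟙 (Spec (CommRingCat.of (B ⊗[A] B)))) (base j (B ⊗[A] B) ≫ f)
        (algebraMap R (B ⊗[A] B)) (by rw [Category.id_comp, hbase]) (π ^ l)
      exact this
    have h2 := congrArg (Scheme.ΓSpecIso (CommRingCat.of (B ⊗[A] B))).hom hk
    rw [map_mul, map_add, map_one, map_mul, hψ, hψ, hπ', map_pow] at h2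
    refine ⟨iR (ev e w) * (Scheme.ΓSpecIso (CommRingCat.of (B ⊗[A] B))).hom k, ?_⟩
    show iL (ev e w) = iR (ev e w) + _
    rw [h2]
    ring
  obtain ⟨v, e', hve⟩ := exists_approx hπ hd hred c (ev e w) hwB hu
  refine ⟨v, fun hnu => ?_, e', hve⟩
  haveI : Module.Flat R B := Module.Flat.trans R A B
  have hreg : IsLeftRegular (algebraMap R B π) := fun x y hxy =>
    Module.Flat.isSMulRegular_of_isRegular (M := B) (IsRegular.of_ne_zero hπ.ne_zero)
      (by simpa [Algebra.smul_def] using hxy)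
  obtain ⟨k', hk'⟩ := exists_pow_expansion hd (pow_pos (Fact.out : p.Prime).pos n) (algebraMap R B v) e' (le_refl l)
  rw [← hve, hwB, Nat.sub_self, Nat.add_zero, _root_.add_assoc, ← mul_add] at hk'
  exact dvd_of_dvd_map hπ hreg hnu ⟨e' ^ p ^ n + k', by rw [map_sub, map_pow, hk']; ring⟩

set_option maxHeartbeats 800000 in
theorem exists_coord (hπ : Irreducible π) {lam : R} (ε : Rˣ) (hlam : lam = ε * π ^ l)
    (hd : ∀ j, 0 < j → j ≤ p ^ n → π ^ (l * (p ^ n - j)) ∣ ((p ^ n).choose j : R))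
    [Flat f] [Surjective f] [IsReduced (pullback f (Spec.map (CommRingCat.ofHom (IsLocalRing.residue R))))]
    [IsAffineHom P.hom] [Flat P.hom] [Surjective P.hom]
    {c : R} (hc : IsUnit c) (w : Γ(P.left, ⊤)) (hw : w ^ p ^ n = ringMap (R := CommRingCat.of R) (P.hom ≫ f) c)
    (htr : ∀ (T : Over X) (x y : T ⟶ P), ∃ k, y.left.appTop w =
      x.left.appTop w * (1 + ringMap (R := CommRingCat.of R) (T.hom ≫ f) lam * k)) :
    ∃ (v₀ : R) (z : Γ(P.left, ⊤)), IsUnit v₀ ∧ π ^ (l * p ^ n) ∣ c - v₀ ^ p ^ n ∧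
      w = ringMap (R := CommRingCat.of R) (P.hom ≫ f) v₀ *
        (1 + ringMap (R := CommRingCat.of R) (P.hom ≫ f) lam * z) := by
  have hN : p ^ n ≠ 0 := (pow_pos (Fact.out : p.Prime).pos n).ne'
  have htr' : ∀ (T : Over X) (x y : T ⟶ P), ∃ k, y.left.appTop w =
      x.left.appTop w * (1 + ringMap (R := CommRingCat.of R) (T.hom ≫ f) (π ^ l) * k) := fun T x y => by
    obtain ⟨k, hk⟩ := htr T x y
    exact ⟨ringMap (R := CommRingCat.of R) (T.hom ≫ f) ↑ε * k, by rw [hk, hlam, map_mul]; ring⟩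
  have key : ∀ x : X, ∃ (B : Type u) (_ : CommRing B) (_ : Algebra R B) (e : Spec (CommRingCat.of B) ⟶ P.left),
      IsOpenImmersion e ∧ (∀ q : P.left, P.hom q = x → q ∈ Set.range e) ∧
      e ≫ P.hom ≫ f = Spec.map (CommRingCat.ofHom (algebraMap R B)) ∧
      (∀ b : R, IsUnit (algebraMap R B b) → b ∉ (f x).asIdeal) ∧
      ∃ v : R, (¬ IsUnit (algebraMap R B π) → π ^ (l * p ^ n) ∣ c - v ^ p ^ n) ∧
        ∃ e' : B, ev e w = algebraMap R B v + algebraMap R B π ^ l * e' := by
    intro x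
    obtain ⟨A, B, _, _, _, _, j, e, hjo, heo, he, hx, hcov⟩ := exists_chart P x
    letI : Algebra R A := (Spec.preimage (j ≫ f)).hom.toAlgebra
    have hj : j ≫ f = Spec.map (CommRingCat.ofHom (algebraMap R A)) := (Spec.map_preimage (j ≫ f)).symm
    letI : Algebra R B := ((algebraMap A B).comp (algebraMap R A)).toAlgebra
    haveI : IsScalarTower R A B := IsScalarTower.of_algebraMap_eq fun _ => rfl
    refine ⟨B, inferInstance, inferInstance, e, heo, hcov, ?_, fun b hb => ?_,
      chart_approx hπ hd c w hw htr' j hj e he⟩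
    · rw [reassoc_of% he, hj, ← Spec.map_comp, ← CommRingCat.ofHom_comp, ← IsScalarTower.algebraMap_eq]
    · obtain ⟨q, hq⟩ := hx
      have hbA : IsUnit (algebraMap R A b) :=
        isUnit_of_map (B := B) (by rwa [← IsScalarTower.algebraMap_apply])
      have hfx : f x = PrimeSpectrum.comap (algebraMap R A) q := by
        rw [← hq, ← Scheme.Hom.comp_apply, hj]
        rfl
      rw [hfx]
      exact fun hb' => q.isPrime.ne_top (Ideal.eq_top_of_isUnit_mem _ hb' hbA)
  choose B iB aB e heo hcov hef hpt v hv e' he' using key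
  obtain ⟨x₀, hx₀⟩ := f.surjective (IsLocalRing.closedPoint R)
  have hπ₀ : ¬ IsUnit (algebraMap R (B x₀) π) := fun h =>
    hpt x₀ π h (by rw [hx₀]; exact (IsLocalRing.mem_maximalIdeal π).2 hπ.not_isUnit)
  obtain ⟨v₀, hv₀u, hv₀⟩ : ∃ v₀ : R, IsUnit v₀ ∧ π ^ (l * p ^ n) ∣ c - v₀ ^ p ^ n := by
    by_cases hu : IsUnit (v x₀)
    · exact ⟨_, hu, hv x₀ hπ₀⟩
    refine ⟨1, isUnit_one, ?_⟩
    rcases Nat.eq_zero_or_pos l with rfl | hl
    · simp
    exfalso
    have h1 : π ∣ c - v x₀ ^ p ^ n := (dvd_pow_self π (Nat.mul_ne_zero hl.ne' hN)).trans (hv x₀ hπ₀)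
    have h2 : π ∣ v x₀ ^ p ^ n := by
      refine dvd_pow ?_ hN
      rw [← Ideal.mem_span_singleton, ← hπ.maximalIdeal_eq]
      exact (IsLocalRing.mem_maximalIdeal _).2 hu
    exact hπ.not_isUnit (isUnit_of_dvd_unit (by simpa using dvd_add h1 h2) hc)
  let 𝒰 : P.left.OpenCover :=
    { I₀ := X
      X := fun x => Spec (@CommRingCat.of (B x) (iB x))
      f := e
      mem₀ := (Scheme.presieve₀_mem_precoverage_iff (P := @IsOpenImmersion) _).2
        ⟨fun q => ⟨P.hom q, hcov _ q rfl⟩, heo⟩ }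
  obtain ⟨z, hz⟩ := exists_glue (P.hom ≫ f) (lam := lam) (by rw [hlam]; exact mul_ne_zero ε.ne_zero (pow_ne_zero _ hπ.ne_zero))
    hv₀u w 𝒰 fun x => by
      letI := iB x
      letI := aB x
      obtain ⟨d, hd'⟩ : algebraMap R (B x) π ^ l ∣ ev (e x) w - algebraMap R (B x) v₀ := by
        by_cases hu : IsUnit (algebraMap R (B x) π)
        · exact (hu.pow l).dvd
        obtain ⟨d, hd₁⟩ := dvd_sub_of_dvd_pow_sub hπ (Nat.pos_of_ne_zero hN) hd (v := v₀) (v' := v x)
          (by simpa using dvd_sub hv₀ (hv x hu))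
        refine ⟨algebraMap R (B x) d + e' x, ?_⟩
        have := congrArg (algebraMap R (B x)) hd₁
        rw [map_sub, map_mul, map_pow] at this
        rw [he' x]
        linear_combination this
      obtain ⟨v₀', hv₀'⟩ := (hv₀u.map (algebraMap R (B x))).exists_left_inv |>.imp fun a h => h
      have hs : ∀ r, ev (e x) (ringMap (R := CommRingCat.of R) (P.hom ≫ f) r) = algebraMap R (B x) r :=
        ev_ringMap (e x) _ _ (hef x)
      let E := (Scheme.ΓSpecIso (CommRingCat.of (B x))).hom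
      obtain ⟨zz, hzz⟩ := (ConcreteCategory.bijective_of_isIso E).2 (v₀' * algebraMap R (B x) ↑ε⁻¹ * d)
      refine ⟨zz, (ConcreteCategory.bijective_of_isIso E).1 ?_⟩
      have hs' : ∀ r, E (ringMap (R := CommRingCat.of R) (e x ≫ P.hom ≫ f) r) = algebraMap R (B x) r := fun r => by
        rw [← hs r]
        simp [ev, ringMap, E]
      show ev (e x) w = E (_ * _)
      erw [map_mul, map_add, map_one, map_mul, hs', hs', hzz]
      have hε : algebraMap R (B x) ↑ε * algebraMap R (B x) ↑ε⁻¹ = 1 := by rw [← map_mul, Units.mul_inv, map_one]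
      rw [hlam, map_mul, map_pow]
      linear_combination hd' - (algebraMap R (B x) π ^ l * d) * hv₀' -
        (v₀' * algebraMap R (B x) v₀ * algebraMap R (B x) π ^ l * d) * hε
  exact ⟨v₀, z, hv₀u, hv₀, hz⟩

end Groth.Agent.GKTorsorLib
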