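import Groth.Agent.GKTorsorLib.Mu

/-! Transposition along the base change, and equivariant morphisms of torsors. -/

set_option autoImplicit false
set_option linter.all false
set_option backward.isDefEq.respectTransparency false
set_option backward.isDefEq.respectTransparency.types false

universe u
open CategoryTheory Limits MonoidalCategory CartesianMonoidalCategory MonObj AlgebraicGeometry

noncomputable section

namespace Groth.Agent.GKTorsorLib

variable {S X : Scheme.{u}} {f : X ⟶ S}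

/-- Transposition of a point of a base change. -/
def tr {T : Over X} {G : Over S} (y : T ⟶ Red.bc f G) : (Over.map f).obj T ⟶ G :=
  ((Over.mapPullbackAdj f).homEquiv T G).symm y

theorem tr_comp {T T' : Over X} {G : Over S} (p : T' ⟶ T) (y : T ⟶ Red.bc f G) :
    tr (p ≫ y) = (Over.map f).map p ≫ tr y :=
  Adjunction.homEquiv_naturality_left_symm _ _ _

theorem tr_map {T : Over X} {G G' : Over S} (y : T ⟶ Red.bc f G) (v : G ⟶ G') :
    tr (y ≫ (Over.pullback f).map v) = tr y ≫ v :=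
  Adjunction.homEquiv_naturality_right_symm _ _ _

theorem tr_injective {T : Over X} {G : Over S} : Function.Injective (tr (f := f) (T := T) (G := G)) :=
  Equiv.injective _

theorem tr_surjective {T : Over X} {G : Over S} : Function.Surjective (tr (f := f) (T := T) (G := G)) :=
  Equiv.surjective _

theorem tr_mu {T : Over X} {G Q : Over S} (g : T ⟶ Red.bc f G) (y : T ⟶ Red.bc f Q) :
    tr (lift g y ≫ Functor.LaxMonoidal.μ (Over.pullback f) G Q) = lift (tr g) (tr y) := by
  refine CartesianMonoidalCategory.hom_ext _ _ ?_ ?_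
  · rw [← tr_map, Category.assoc, Functor.Monoidal.μ_fst, lift_fst, lift_fst]
  · rw [← tr_map, Category.assoc, Functor.Monoidal.μ_snd, lift_snd, lift_snd]

/-- The base change of an action. -/
abbrev bcAct {G Q : Over S} [GrpObj G] (b : AlgGrp.Action G Q) : Red.bc f G ⊗ Red.bc f Q ⟶ Red.bc f Q :=
  Functor.LaxMonoidal.μ (Over.pullback f) G Q ≫ (Over.pullback f).map b.act

theorem tr_bcAct {G Q : Over S} [GrpObj G] (b : AlgGrp.Action G Q) {T : Over X} (g : T ⟶ Red.bc f G)
    (y : T ⟶ Red.bc f Q) : tr (lift g y ≫ bcAct b) = lift (tr g) (tr y) ≫ b.act := by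
  rw [bcAct, ← Category.assoc, tr_map, tr_mu]

theorem isIso_bcAct {G Q : Over S} [GrpObj G] (b : AlgGrp.Action G Q) (hb : NonAbH1.IsPseudoTorsorSch b) :
    IsIso (lift (bcAct (f := f) b) (snd (Red.bc f G) (Red.bc f Q))) := by
  refine (PrincBundLib.isIso_lift_snd_iff _).2 fun T x w => ?_
  obtain ⟨g₀, hg₀, hu⟩ := (PrincBundLib.isIso_lift_snd_iff b.act).1 hb _ (tr x) (tr w)
  obtain ⟨g, rfl⟩ := tr_surjective g₀
  exact ⟨g, tr_injective (by rw [tr_bcAct, hg₀]), fun g' hg' =>
    tr_injective (hu (tr g') ((tr_bcAct b g' w).symm.trans (congrArg tr hg')))⟩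

/-- An equivariant morphism between faithfully flat quasi-compact principal homogeneous spaces is an isomorphism. -/
theorem isIso_of_equivariant {G Y Y' : Over X} (a : G ⊗ Y ⟶ Y) (a' : G ⊗ Y' ⟶ Y')
    [Flat Y.hom] [Surjective Y.hom] [QuasiCompact Y.hom]
    (hY : IsIso (lift a (snd G Y))) (hY' : IsIso (lift a' (snd G Y')))
    (F : Y ⟶ Y') (hF : (G ◁ F) ≫ a' = a ≫ F) : IsIso F := by
  let Φ : G ⊗ Y ⟶ Y ⊗ Y := lift a (snd G Y)
  let Φ' : G ⊗ Y' ⟶ Y' ⊗ Y' := lift a' (snd G Y')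
  haveI : IsIso Φ := hY
  haveI : IsIso Φ' := hY'
  let Ψ : G ⊗ Y ⟶ Y' ⊗ Y := lift (a ≫ F) (snd G Y)
  let Ψi : Y' ⊗ Y ⟶ G ⊗ Y := lift ((Y' ◁ F) ≫ inv Φ' ≫ fst G Y') (snd Y' Y)
  have hinv : inv Φ' ≫ snd G Y' = snd Y' Y' := by
    rw [IsIso.inv_comp_eq]; simp [Φ']
  have hinv' : inv Φ' ≫ a' = fst Y' Y' := by
    rw [IsIso.inv_comp_eq]; simp [Φ']
  have h1 : Ψ ≫ (Y' ◁ F) = (G ◁ F) ≫ Φ' := by
    apply CartesianMonoidalCategory.hom_ext <;> simp [Ψ, Φ', hF]
  have hl : lift ((Y' ◁ F) ≫ inv Φ' ≫ fst G Y') (snd Y' Y) ≫ (G ◁ F) = (Y' ◁ F) ≫ inv Φ' := by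
    apply CartesianMonoidalCategory.hom_ext <;> simp [hinv]
  have h2 : Ψi ≫ a ≫ F = fst Y' Y := by
    rw [← hF, ← Category.assoc]
    show (lift ((Y' ◁ F) ≫ inv Φ' ≫ fst G Y') (snd Y' Y) ≫ (G ◁ F)) ≫ a' = _
    rw [hl, Category.assoc, hinv']
    simp
  haveI : IsIso Ψ := by
    refine ⟨Ψi, ?_, ?_⟩
    · apply CartesianMonoidalCategory.hom_ext
      · show (Ψ ≫ lift _ _) ≫ fst G Y = _
        rw [Category.assoc, lift_fst, ← Category.assoc, h1]
        simp
      · simp [Ψ, Ψi]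
    · apply CartesianMonoidalCategory.hom_ext
      · show (Ψi ≫ lift _ _) ≫ fst Y' Y = _
        rw [Category.assoc, lift_fst, h2]
        simp
      · simp [Ψ, Ψi]
  have hfY : F ▷ Y = inv Φ ≫ Ψ := by
    rw [IsIso.eq_inv_comp]
    apply CartesianMonoidalCategory.hom_ext <;> simp [Φ, Ψ]
  haveI : IsIso (F ▷ Y) := hfY ▸ inferInstance
  have sq : IsPullback (fst Y Y).left (F ▷ Y).left F.left (fst Y' Y).left := by
    refine IsPullback.of_right (h₁₂ := (snd Y' Y).left) (h₁₁ := (F ▷ Y).left) (h₂₂ := Y'.hom) (v₁₃ := Y.hom) ?_ ?_ ?_ |>.flip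
    · rw [← Over.comp_left, whiskerRight_snd, Over.w F]
      exact (IsPullback.of_hasPullback Y.hom Y.hom).flip
    · exact congrArg CommaMorphism.left (whiskerRight_fst F Y)
    · exact (IsPullback.of_hasPullback Y'.hom Y.hom).flip
  haveI : IsIso F.left := by
    have h : (MorphismProperty.isomorphisms Scheme) F.left :=
      MorphismProperty.of_isPullback_of_descendsAlong (P := MorphismProperty.isomorphisms Scheme)
        (Q := (@Surjective ⊓ @Flat ⊓ @QuasiCompact : MorphismProperty Scheme.{u})) sq.flip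
        ⟨⟨(inferInstanceAs (Surjective (pullback.fst Y'.hom Y.hom))), inferInstanceAs (Flat (pullback.fst Y'.hom Y.hom))⟩,
          inferInstanceAs (QuasiCompact (pullback.fst Y'.hom Y.hom))⟩
        (inferInstanceAs (IsIso ((Over.forget _).map (F ▷ Y))))
    exact h
  haveI : IsIso ((Over.forget X).map F) := ‹IsIso F.left›
  exact isIso_of_reflects_iso F (Over.forget X)

theorem torsor_props' {G Y : Over X} [GrpObj G] [IsFinite G.hom] [Flat G.hom] (a : AlgGrp.Action G Y)
    (hY : NonAbH1.IsTorsorFor Scheme.fppfPrecoverage a) : IsFinite Y.hom ∧ Flat Y.hom ∧ Surjective Y.hom := by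
  haveI := Groth.Agent.FpqcDesc.isFinite_descends.{u}
  have h : NonAbH1.IsTorsorFor Scheme.fpqcPrecoverage a :=
    ⟨hY.1, hY.2.imp fun R hR => ⟨Scheme.fppfPrecoverage_le_fpqcPrecoverage _ hR.1, hR.2⟩⟩
  obtain ⟨T, σ, hT, hX⟩ := TorsorDesc.exists_trivializing a h
  haveI : SchDesc.IsFpqc T.hom := hT
  haveI : IsZariskiLocalAtTarget (@Flat : MorphismProperty Scheme.{u}) :=
    HasRingHomProperty.instIsZariskiLocalAtTarget _
  exact ⟨PrincBundLib.property_of_torsor @IsFinite a h inferInstance,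
    TorsorDesc.prop_of_isFpqc (@Flat : MorphismProperty Scheme.{u}) inferInstance Y.hom T.hom (hX _ inferInstance),
    ⟨fun s => by
      obtain ⟨t, rfl⟩ := T.hom.surjective s
      exact ⟨σ.left t, by rw [← Scheme.Hom.comp_apply, Over.w σ]⟩⟩⟩

end Groth.Agent.GKTorsorLib
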