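import Groth.Agent.GKTorsorLib.Coord
import Groth.Agent.GKTorsorLib.Transpose

/-! A `G_{λ,n}`-torsor whose push-forward to `μ_{p^n}` comes from the base comes from the base. -/

set_option autoImplicit false
set_option linter.all false
set_option backward.isDefEq.respectTransparency false
set_option backward.isDefEq.respectTransparency.types false

universe u
open CategoryTheory Limits MonoidalCategory CartesianMonoidalCategory MonObj AlgebraicGeometry
open Groth.Agent.GaPoints (ringMap)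

noncomputable section

namespace Groth.Agent.GKTorsorLib

variable {R : Type u} [CommRing R] {lam : R} {N : ℕ} {h : SekSuwa.DivCond lam N}
  {X : Scheme.{u}} {f : X ⟶ Spec (CommRingCat.of R)} {P : Over X}

theorem pullback_point {T : Over X} (a : AlgGrp.Action (Red.bc f (SekSuwa.GK R lam N h)) P)
    (g : T ⟶ Red.bc f (SekSuwa.GK R lam N h)) (x : T ⟶ P) (w : Γ(((Over.map f).obj P).left, ⊤))
    (hw : ((Over.map f).map a.act).left.appTop w =
      (1 + str ((Over.map f).obj (Red.bc f (SekSuwa.GK R lam N h) ⊗ P)) lam *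
        tv (tr (fst (Red.bc f (SekSuwa.GK R lam N h)) P))) *
          ((Over.map f).map (snd (Red.bc f (SekSuwa.GK R lam N h)) P)).left.appTop w) :
    ((Over.map f).map (lift g x ≫ a.act)).left.appTop w =
      (1 + str ((Over.map f).obj T) lam * tv (tr g)) * ((Over.map f).map x).left.appTop w := by
  have e3 : ((Over.map f).map (lift g x)).left.appTop (tv (tr (fst (Red.bc f (SekSuwa.GK R lam N h)) P))) = tv (tr g) := by
    rw [← tv_comp, ← tr_comp, lift_fst]
  have e2 : ((Over.map f).map (lift g x)).left.appTop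
      (((Over.map f).map (snd (Red.bc f (SekSuwa.GK R lam N h)) P)).left.appTop w) =
      ((Over.map f).map x).left.appTop w := by
    conv_rhs => rw [show x = lift g x ≫ snd _ _ from (lift_snd g x).symm, Functor.map_comp]
    simp only [Over.comp_left, Scheme.Hom.comp_appTop, CommRingCat.comp_apply]
  rw [Functor.map_comp, Over.comp_left, Scheme.Hom.comp_appTop, CommRingCat.comp_apply, hw, map_mul, map_add,
    map_one, map_mul, str_comp, e3, e2]

set_option maxHeartbeats 1600000 in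
theorem main {R : Type u} [CommRing R] [IsDomain R] [IsDiscreteValuationRing R]
    (p : ℕ) [Fact p.Prime] [CharP (IsLocalRing.ResidueField R) p] [PerfectField (IsLocalRing.ResidueField R)]
    (n : ℕ) (lam : R) (h : SekSuwa.DivCond lam (p ^ n)) {X : Scheme.{u}}
    (f : X ⟶ Spec (CommRingCat.of R)) [Flat f] [Surjective f]
    [IsReduced (pullback f (Spec.map (CommRingCat.ofHom (IsLocalRing.residue R))))]
    {P : Over X} (a : AlgGrp.Action (Red.bc f (SekSuwa.GK R lam (p ^ n) h)) P)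
    (hP : NonAbH1.IsTorsorFor Scheme.fppfPrecoverage a)
    {Q' : Over (Spec (CommRingCat.of R))} (b' : AlgGrp.Action (Red.diag R (ZMod (p ^ n))) Q')
    (hQ' : NonAbH1.IsTorsorFor Scheme.fppfPrecoverage b')
    (Φ : P ⟶ Red.bc f Q')
    (hΦ : a.act ≫ Φ = lift (fst _ _ ≫ (Over.pullback f).map (SekSuwa.alphaN R lam (p ^ n) h)) (snd _ _ ≫ Φ) ≫
      bcAct b') :
    ∃ (Q : Over (Spec (CommRingCat.of R))) (b : AlgGrp.Action (SekSuwa.GK R lam (p ^ n) h) Q)
      (i : P ≅ Red.bc f Q), NonAbH1.IsTorsorFor Scheme.fppfPrecoverage b ∧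
      a.act ≫ i.hom = (Red.bc f (SekSuwa.GK R lam (p ^ n) h) ◁ i.hom) ≫ bcAct b := by
  have hp0 : 0 < p ^ n := pow_pos (Fact.out : p.Prime).pos n
  haveI : NeZero (p ^ n) := ⟨hp0.ne'⟩
  have hlam0 : lam ≠ 0 := nonZeroDivisors.ne_zero h.nzd
  obtain ⟨π, hπ⟩ := IsDiscreteValuationRing.exists_irreducible R
  obtain ⟨l, ε, hlam⟩ := IsDiscreteValuationRing.eq_unit_mul_pow_irreducible hlam0 hπ
  have hd : ∀ j, 0 < j → j ≤ p ^ n → π ^ (l * (p ^ n - j)) ∣ ((p ^ n).choose j : R) := fun j hj hjN => by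
    refine Dvd.dvd.trans ?_ (dvd_choose h hlam0 hj hjN)
    rw [hlam, mul_pow, pow_mul]
    exact dvd_mul_left _ _
  obtain ⟨hGf, hGfl⟩ := SWTorsorLib.isFinite_GK (R := R) hp0 h
  haveI : IsFinite (Red.bc f (SekSuwa.GK R lam (p ^ n) h)).hom :=
    MorphismProperty.pullback_snd _ _ hGf
  haveI : Flat (Red.bc f (SekSuwa.GK R lam (p ^ n) h)).hom :=
    MorphismProperty.pullback_snd _ _ hGfl
  obtain ⟨hPf, hPfl, hPs⟩ := torsor_props' a hP
  haveI := hPf
  haveI := hPfl
  haveI := hPs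
  obtain ⟨w, c, hc, hwc, hwe⟩ := exists_root_fn b' hQ'
  let G := Red.bc f (SekSuwa.GK R lam (p ^ n) h)
  let P₀ := (Over.map f).obj P
  let T₀ := (Over.map f).obj (G ⊗ P)
  let u : Γ(P₀.left, ⊤) := (tr Φ).left.appTop w
  have huN : u ^ p ^ n = str P₀ c := by rw [← map_pow, hwc, str_comp]
  let pa : T₀ ⟶ P₀ := (Over.map f).map a.act
  let p₁ : T₀ ⟶ P₀ := (Over.map f).map (snd G P)
  have hu₀ : pa.left.appTop u = (1 + str T₀ lam * tv (tr (fst G P))) * p₁.left.appTop u := by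
    have h1 := congrArg tr hΦ
    rw [tr_comp, tr_bcAct, tr_map, tr_comp] at h1
    have h2 := congrArg (fun g : T₀ ⟶ Q' => g.left.appTop w) h1
    rw [hwe, gm_alphaN] at h2
    simp only [Over.comp_left, Scheme.Hom.comp_appTop, CommRingCat.comp_apply] at h2
    exact h2
  have hact := fun (T : Over X) (g : T ⟶ G) (x : T ⟶ P) => pullback_point a g x u hu₀
  obtain ⟨v₀, z, hv₀, hdiv, hz⟩ := exists_coord (f := f) (P := P) (p := p) (n := n) hπ ε hlam hd hc u huN
    fun T x y => by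
      obtain ⟨g, hg, -⟩ := GmTorsor.existsUnique_act a hP.1 x y
      refine ⟨tv (tr g), ?_⟩
      rw [← hg]
      exact (hact T g x).trans (_root_.mul_comm _ _)
  let z' : Γ(P₀.left, ⊤) := z
  have hz' : u = str P₀ v₀ * (1 + str P₀ lam * z') := hz
  obtain ⟨d, hd₀⟩ := hdiv
  obtain ⟨v', hv'⟩ := hv₀
  let bb : R := (↑v'⁻¹ : R) ^ p ^ n * (↑ε⁻¹ : R) ^ p ^ n * d
  have hcb : c = v₀ ^ p ^ n * (1 + lam ^ p ^ n * bb) := by
    have e1 : v₀ ^ p ^ n * (↑v'⁻¹ : R) ^ p ^ n = 1 := by rw [← hv', ← mul_pow, Units.mul_inv, one_pow]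
    have e2 : (↑ε : R) ^ p ^ n * (↑ε⁻¹ : R) ^ p ^ n = 1 := by rw [← mul_pow, Units.mul_inv, one_pow]
    simp only [bb, hlam, mul_pow, ← pow_mul]
    linear_combination hd₀ - ((↑ε : R) ^ p ^ n * (↑ε⁻¹ : R) ^ p ^ n * π ^ (l * p ^ n) * d) * e1 -
      (π ^ (l * p ^ n) * d) * e2
  have hcu : IsUnit (1 + lam ^ p ^ n * bb) := isUnit_of_mul_isUnit_right (hcb ▸ hc)
  obtain ⟨b, hb, hrv⟩ := exists_torsor (h := h) (b := bb) hlam0 hp0 hcu
  haveI : Flat P₀.hom := inferInstanceAs (Flat (P.hom ≫ f))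
  haveI : Flat T₀.hom := by
    have e : (G ⊗ P).hom = (fst G P).left ≫ G.hom := (Over.w _).symm
    haveI : Flat (fst G P).left := inferInstanceAs (Flat (pullback.fst G.hom P.hom))
    show Flat ((G ⊗ P).hom ≫ f)
    rw [e]
    infer_instance
  have hzψ : (SekSuwa.psiPoly lam (p ^ n) h).eval₂ (str P₀) z' = str P₀ bb := by
    letI : Algebra R Γ(P₀.left, ⊤) := (str P₀).toAlgebra
    have e : str P₀ (lam ^ p ^ n) * (SekSuwa.psiPoly lam (p ^ n) h).eval₂ (str P₀) z' =
        (1 + str P₀ lam * z') ^ p ^ n - 1 :=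
      SekSuwa.aeval_psiPoly (B := Γ(P₀.left, ⊤)) h z'
    have e1 : str P₀ v₀ ^ p ^ n * (1 + str P₀ lam * z') ^ p ^ n =
        str P₀ v₀ ^ p ^ n * (1 + str P₀ lam ^ p ^ n * str P₀ bb) := by
      have e2 := huN
      rw [hz', hcb, map_mul, map_add, map_one, map_mul, map_pow, map_pow, mul_pow] at e2
      exact e2
    have e3 := ((hv' ▸ v'.isUnit : IsUnit v₀).map (str P₀) |>.pow (p ^ n)).mul_left_cancel e1
    refine sub_eq_zero.1 (eq_zero_of_ringMap_mul P₀.hom (pow_ne_zero (p ^ n) hlam0) ?_)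
    show str P₀ (lam ^ p ^ n) * _ = 0
    rw [map_pow] at e ⊢
    linear_combination e + e3
  obtain ⟨F₀, hF₀⟩ := exists_rv (T := P₀) (h := h) (b := bb) z' hzψ
  obtain ⟨F, hF⟩ := tr_surjective (f := f) (T := P) F₀
  have heq : a.act ≫ F = (G ◁ F) ≫ bcAct b := by
    refine tr_injective ?_
    have e0 : (G ◁ F) = lift (fst G P) (snd G P ≫ F) := by
      refine CartesianMonoidalCategory.hom_ext _ _ ?_ ?_ <;> simp
    rw [e0, tr_bcAct, tr_comp, tr_comp, hF]
    refine rv_injective ?_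
    rw [rv_comp, hrv, rv_comp, hF₀]
    show pa.left.appTop z' = tv (tr (fst G P)) + p₁.left.appTop z' + str T₀ lam * tv (tr (fst G P)) * p₁.left.appTop z'
    have h1 := hu₀
    rw [hz'] at h1
    simp only [map_mul, map_add, map_one, str_comp] at h1
    refine sub_eq_zero.1 (eq_zero_of_ringMap_mul T₀.hom
      (mul_ne_zero (hv' ▸ v'.ne_zero : v₀ ≠ 0) hlam0) ?_)
    show str T₀ (v₀ * lam) * _ = 0
    rw [map_mul]
    linear_combination h1
  haveI : QuasiCompact P.hom := inferInstance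
  haveI : IsIso F := isIso_of_equivariant a.act (bcAct b) hP.1 (isIso_bcAct b hb.1) F heq.symm
  exact ⟨QObj h bb, b, asIso F, hb, heq⟩

end Groth.Agent.GKTorsorLib
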