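import Groth.Agent.GKTorsorLib.Pts
import Groth.Agent.S14683
import Groth.Agent.S14694
import Groth.Agent.PrincBundLib.Descent
import Groth.Agent.GmTorsor.Main

/-! Points of `G_{λ,N}`, of `μ_N`, and the torsor `ψ = b` under `G_{λ,N}`. -/

set_option autoImplicit false
set_option linter.all false
set_option backward.isDefEq.respectTransparency false
set_option backward.isDefEq.respectTransparency.types false

universe u
open CategoryTheory Limits MonoidalCategory CartesianMonoidalCategory MonObj AlgebraicGeometry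
open scoped TensorProduct

noncomputable section

namespace Groth.Agent.GKTorsorLib

variable {R : Type u} [CommRing R] {lam : R} {N : ℕ} {h : SekSuwa.DivCond lam N}
  {T T' : Over (Spec (CommRingCat.of R))}

/-- The coordinate of a point of `G_{λ,N}`. -/
def tv (x : T ⟶ SekSuwa.GK R lam N h) : Γ(T.left, ⊤) := val x SekSuwa.AK.t

theorem tv_comp (p : T' ⟶ T) (x : T ⟶ SekSuwa.GK R lam N h) : tv (p ≫ x) = p.left.appTop (tv x) := val_comp p x _

theorem tv_mul (x y : T ⟶ SekSuwa.GK R lam N h) : tv (x * y) = tv x + tv y + str T lam * tv x * tv y :=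
  val_mul_twisted x y _ lam SekSuwa.AK.comul_t

theorem tv_pow (x : T ⟶ SekSuwa.GK R lam N h) : (1 + str T lam * tv x) ^ N = 1 := by
  have e := congrArg (val x) (SekSuwa.AK.u_pow (R := R) (lam := lam) (N := N) (h := h))
  rw [map_pow, map_add, map_one, Algebra.smul_def, map_mul, val_algebraMap] at e
  exact e

theorem tv_one (hN : 0 < N) : tv (1 : T ⟶ SekSuwa.GK R lam N h) = 0 := by
  have h1 := tv_mul (1 : T ⟶ SekSuwa.GK R lam N h) 1
  rw [_root_.one_mul] at h1
  have hu : IsUnit (1 + str T lam * tv (1 : T ⟶ SekSuwa.GK R lam N h)) :=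
    IsUnit.of_pow_eq_one (tv_pow _) hN.ne'
  refine hu.mul_right_eq_zero.1 ?_
  linear_combination -h1

theorem tv_psi (x : T ⟶ SekSuwa.GK R lam N h) : (SekSuwa.psiPoly lam N h).eval₂ (str T) (tv x) = 0 := by
  letI : Algebra R Γ(T.left, ⊤) := (str T).toAlgebra
  let φ : SekSuwa.AK R lam N h →ₐ[R] Γ(T.left, ⊤) := { val x with commutes' := val_algebraMap x }
  have e := Polynomial.aeval_algHom_apply φ (SekSuwa.AK.t : SekSuwa.AK R lam N h) (SekSuwa.psiPoly lam N h)
  rw [SekSuwa.AK.aeval_t, map_zero] at e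
  exact e

theorem tv_injective : Function.Injective (tv (T := T) (lam := lam) (N := N) (h := h)) := by
  intro x y e
  refine pt_ext ?_
  letI : Algebra R Γ(T.left, ⊤) := (str T).toAlgebra
  let φ (z : T ⟶ SekSuwa.GK R lam N h) : SekSuwa.AK R lam N h →ₐ[R] Γ(T.left, ⊤) :=
    { val z with commutes' := val_algebraMap z }
  have et : φ x SekSuwa.AK.t = φ y SekSuwa.AK.t := e
  have e1 : (1 + lam • (SekSuwa.AK.t : SekSuwa.AK R lam N h)) * SekSuwa.AK.inv = 1 := by
    have := congrArg (SekSuwa.AK.mkHom R lam N h) (SekSuwa.A.u_mul_inv (R := R) (lam := lam))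
    rw [map_mul, map_one, SekSuwa.A.u, map_add, map_one, map_smul] at this
    exact this
  have hi : φ x SekSuwa.AK.inv = φ y SekSuwa.AK.inv :=
    left_inv_eq_right_inv (a := φ x (1 + lam • SekSuwa.AK.t))
      (by rw [← map_mul, _root_.mul_comm, e1, map_one])
      (by rw [show φ x (1 + lam • SekSuwa.AK.t) = φ y (1 + lam • SekSuwa.AK.t) by simp only [map_add, map_one, map_smul, et],
            ← map_mul, e1, map_one])
  exact congrArg AlgHom.toRingHom (SekSuwa.AK.algHom_ext et hi)

theorem exists_tv (hN : 0 < N) (z : Γ(T.left, ⊤)) (hz : (SekSuwa.psiPoly lam N h).eval₂ (str T) z = 0) :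
    ∃ x : T ⟶ SekSuwa.GK R lam N h, tv x = z := by
  letI : Algebra R Γ(T.left, ⊤) := (str T).toAlgebra
  have hu : (1 + lam • z) ^ N = 1 := by
    have e := SekSuwa.aeval_psiPoly h z
    rw [show Polynomial.aeval z (SekSuwa.psiPoly lam N h) = 0 from hz, mul_zero] at e
    rw [Algebra.smul_def]
    exact sub_eq_zero.1 e.symm
  have hc : (1 + lam • z) * (1 + lam • z) ^ (N - 1) = 1 := by rw [← pow_succ', Nat.sub_add_cancel hN, hu]
  let φ : SekSuwa.AK R lam N h →ₐ[R] Γ(T.left, ⊤) :=
    Ideal.Quotient.liftₐ (SekSuwa.kerIdeal lam N h) (SekSuwa.A.lift R lam z _ hc) (by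
      intro a ha
      obtain ⟨d, rfl⟩ := Ideal.mem_span_singleton'.mp ha
      rw [map_mul, SekSuwa.kerGen, ← Polynomial.aeval_algHom_apply, SekSuwa.A.lift_t]
      exact (congrArg (_ * ·) hz).trans (mul_zero _))
  obtain ⟨x, hx⟩ := exists_pt φ.toRingHom φ.commutes
  refine ⟨x, ?_⟩
  rw [tv, hx]
  exact SekSuwa.A.lift_t _ _ hc

/-- The cocycle identity. -/
theorem psi_twisted {B : Type u} [CommRing B] (ρ : R →+* B) (a a' : B) :
    (SekSuwa.psiPoly lam N h).eval₂ ρ (a + a' + ρ lam * a * a') =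
      (SekSuwa.psiPoly lam N h).eval₂ ρ a + (SekSuwa.psiPoly lam N h).eval₂ ρ a' +
        ρ (lam ^ N) * (SekSuwa.psiPoly lam N h).eval₂ ρ a * (SekSuwa.psiPoly lam N h).eval₂ ρ a' := by
  letI : Algebra R B := ρ.toAlgebra
  let φ : MvPolynomial (Fin 2) R →ₐ[R] B := MvPolynomial.aeval ![a, a']
  have h0 : φ (MvPolynomial.X 0) = a := MvPolynomial.aeval_X _ _
  have h1 : φ (MvPolynomial.X 1) = a' := MvPolynomial.aeval_X _ _
  have hc := congrArg φ (SekSuwa.psiPoly_cocycle h)
  simp only [map_add, map_mul, MvPolynomial.algHom_C, ← Polynomial.aeval_algHom_apply, h0, h1] at hc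
  exact hc

/-- The coordinate ring of the fibre of `ψ` over `b`. -/
abbrev QRing (h : SekSuwa.DivCond lam N) (b : R) : Type u := AdjoinRoot (SekSuwa.psiPoly lam N h - Polynomial.C b)

/-- The fibre of `ψ` over `b`. -/
abbrev QObj (h : SekSuwa.DivCond lam N) (b : R) : Over (Spec (CommRingCat.of R)) := Aff R (QRing h b)

variable {b : R}

/-- The coordinate of a point of the fibre. -/
def rv (x : T ⟶ QObj h b) : Γ(T.left, ⊤) := val x (AdjoinRoot.root _)

theorem rv_comp (p : T' ⟶ T) (x : T ⟶ QObj h b) : rv (p ≫ x) = p.left.appTop (rv x) := val_comp p x _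

theorem rv_psi (x : T ⟶ QObj h b) : (SekSuwa.psiPoly lam N h).eval₂ (str T) (rv x) = str T b := by
  letI : Algebra R Γ(T.left, ⊤) := (str T).toAlgebra
  let φ : QRing h b →ₐ[R] Γ(T.left, ⊤) := { val x with commutes' := val_algebraMap x }
  have e := Polynomial.aeval_algHom_apply φ (AdjoinRoot.root (SekSuwa.psiPoly lam N h - Polynomial.C b))
    (SekSuwa.psiPoly lam N h - Polynomial.C b)
  rw [AdjoinRoot.aeval_eq, AdjoinRoot.mk_self, map_zero, map_sub, Polynomial.aeval_C, sub_eq_zero] at e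
  exact e

theorem rv_injective : Function.Injective (rv (T := T) (h := h) (b := b)) := by
  intro x y e
  refine pt_ext ?_
  letI : Algebra R Γ(T.left, ⊤) := (str T).toAlgebra
  let φ (z : T ⟶ QObj h b) : QRing h b →ₐ[R] Γ(T.left, ⊤) := { val z with commutes' := val_algebraMap z }
  exact congrArg AlgHom.toRingHom (AdjoinRoot.algHom_ext (f := _) (g₁ := φ x) (g₂ := φ y) e)

theorem exists_rv (z : Γ(T.left, ⊤)) (hz : (SekSuwa.psiPoly lam N h).eval₂ (str T) z = str T b) :
    ∃ x : T ⟶ QObj h b, rv x = z := by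
  have hz' : (SekSuwa.psiPoly lam N h - Polynomial.C b).eval₂ (str T) z = 0 := by
    rw [Polynomial.eval₂_sub, Polynomial.eval₂_C, hz, sub_self]
  obtain ⟨x, hx⟩ := exists_pt (AdjoinRoot.lift (str T) z hz') (fun r => AdjoinRoot.lift_of hz')
  exact ⟨x, by rw [rv, hx, AdjoinRoot.lift_root]⟩

theorem exists_act (hN : 0 < N) :
    ∃ a : AlgGrp.Action (SekSuwa.GK R lam N h) (QObj h b), ∀ (T : Over (Spec (CommRingCat.of R)))
      (g : T ⟶ SekSuwa.GK R lam N h) (x : T ⟶ QObj h b),
      rv (lift g x ≫ a.act) = tv g + rv x + str T lam * tv g * rv x := by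
  obtain ⟨act, hact⟩ := exists_rv (T := SekSuwa.GK R lam N h ⊗ QObj h b) (h := h) (b := b)
    (tv (fst _ _) + rv (snd _ _) + str _ lam * tv (fst _ _) * rv (snd _ _))
    (by rw [psi_twisted, tv_psi, rv_psi, zero_add, mul_zero, zero_mul, add_zero])
  have key : ∀ (T : Over (Spec (CommRingCat.of R))) (g : T ⟶ SekSuwa.GK R lam N h) (x : T ⟶ QObj h b),
      rv (lift g x ≫ act) = tv g + rv x + str T lam * tv g * rv x := fun T g x => by
    rw [rv_comp, hact, map_add, map_add, map_mul, map_mul, str_comp, ← tv_comp, ← rv_comp, lift_fst, lift_snd]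
  refine ⟨{ act := act, one_act := ?_, mul_act := ?_ }, key⟩
  · have e : (η[SekSuwa.GK R lam N h] ▷ QObj h b) =
        lift (1 : 𝟙_ _ ⊗ QObj h b ⟶ SekSuwa.GK R lam N h) (snd _ _) := by
      refine CartesianMonoidalCategory.hom_ext _ _ ?_ ?_
      · rw [lift_fst, whiskerRight_fst, Hom.one_def, toUnit_unique (fst _ _) (toUnit _)]
      · rw [lift_snd, whiskerRight_snd]
    rw [e, leftUnitor_hom]
    refine rv_injective ?_
    rw [key, tv_one hN, mul_zero, zero_mul, add_zero, zero_add]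
  · have e1 : (μ[SekSuwa.GK R lam N h] ▷ QObj h b) =
        lift ((fst _ _ ≫ fst _ _) * (fst _ _ ≫ snd _ _)) (snd _ _) := by
      refine CartesianMonoidalCategory.hom_ext _ _ ?_ ?_
      · rw [lift_fst, whiskerRight_fst, Hom.mul_def, ← comp_lift, lift_fst_snd, Category.comp_id]
      · rw [lift_snd, whiskerRight_snd]
    have e2 : (α_ (SekSuwa.GK R lam N h) (SekSuwa.GK R lam N h) (QObj h b)).hom ≫ (SekSuwa.GK R lam N h ◁ act) =
        lift (fst _ _ ≫ fst _ _) (lift (fst _ _ ≫ snd _ _) (snd _ _) ≫ act) := by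
      refine CartesianMonoidalCategory.hom_ext _ _ ?_ ?_
      · simp
      · rw [Category.assoc, whiskerLeft_snd, lift_snd, ← Category.assoc]
        congr 1
        refine CartesianMonoidalCategory.hom_ext _ _ ?_ ?_ <;> simp
    rw [← Category.assoc, e1, e2]
    refine rv_injective ?_
    rw [key, key, key, tv_mul]
    ring

theorem isPseudoTorsor (hN : 0 < N) (hc : IsUnit (1 + lam ^ N * b)) (a : AlgGrp.Action (SekSuwa.GK R lam N h) (QObj h b))
    (ha : ∀ (T : Over (Spec (CommRingCat.of R))) (g : T ⟶ SekSuwa.GK R lam N h) (x : T ⟶ QObj h b),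
      rv (lift g x ≫ a.act) = tv g + rv x + str T lam * tv g * rv x) :
    NonAbH1.IsPseudoTorsorSch a := by
  refine (PrincBundLib.isIso_lift_snd_iff a.act).2 fun T x w => ?_
  letI : Algebra R Γ(T.left, ⊤) := (str T).toAlgebra
  have hb : (1 + str T lam * rv w) ^ N = str T (1 + lam ^ N * b) := by
    have e := SekSuwa.aeval_psiPoly h (rv w)
    rw [show Polynomial.aeval (rv w) (SekSuwa.psiPoly lam N h) = str T b from rv_psi w] at e
    rw [map_add, map_one, map_mul]
    exact (eq_add_of_sub_eq' e.symm).trans (by rfl)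
  have hu : IsUnit (1 + str T lam * rv w) := (isUnit_pow_iff hN.ne').1 (hb ▸ hc.map (str T))
  obtain ⟨v, hv⟩ := hu
  let t := (rv x - rv w) * ↑v⁻¹
  have ht : t + rv w + str T lam * t * rv w = rv x := by
    have := v.inv_mul
    rw [hv] at this
    linear_combination (rv x - rv w) * this
  have ht0 : (SekSuwa.psiPoly lam N h).eval₂ (str T) t = 0 := by
    have e := psi_twisted (h := h) (str T) t (rv w)
    rw [ht, rv_psi, rv_psi] at e
    refine (hc.map (str T)).mul_right_eq_zero.1 ?_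
    rw [map_add, map_one, map_mul]
    linear_combination -e
  obtain ⟨g, hg⟩ := exists_tv hN t ht0
  refine ⟨g, rv_injective (by rw [ha, hg, ht]), fun g' hg' => tv_injective ?_⟩
  have e := (ha T g' w).symm.trans ((congrArg rv hg').trans ht.symm)
  rw [hg]
  refine (hv ▸ v.isUnit).mul_left_cancel ?_
  linear_combination e

theorem monic_sub [IsDomain R] (hlam : lam ≠ 0) (hN : 0 < N) :
    (SekSuwa.psiPoly lam N h - Polynomial.C b).Monic ∧ (SekSuwa.psiPoly lam N h - Polynomial.C b).natDegree = N := by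
  obtain ⟨h1, h2⟩ := S14683.psiPoly_monic (h := h) hlam hN
  refine ⟨h1.sub_of_left (Polynomial.degree_C_le.trans_lt ?_), by rw [Polynomial.natDegree_sub_C, h2]⟩
  rw [Polynomial.degree_eq_natDegree h1.ne_zero, h2]
  exact_mod_cast hN

theorem model_props [IsDomain R] (hlam : lam ≠ 0) (hN : 0 < N) :
    IsFinite (QObj h b).hom ∧ Flat (QObj h b).hom ∧ Surjective (QObj h b).hom ∧
      LocallyOfFinitePresentation (QObj h b).hom := by
  obtain ⟨h1, h2⟩ := monic_sub (h := h) (b := b) hlam hN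
  let pb := AdjoinRoot.powerBasis' h1
  haveI : Module.Free R (QRing h b) := Module.Free.of_basis pb.basis
  haveI : Module.Finite R (QRing h b) := Module.Finite.of_basis pb.basis
  haveI : Algebra.FinitePresentation R (QRing h b) := AdjoinRoot.finitePresentation _
  haveI : Nontrivial (QRing h b) := by
    haveI : Nonempty (Fin pb.dim) := ⟨⟨0, by rw [AdjoinRoot.powerBasis'_dim, h2]; exact hN⟩⟩
    exact pb.basis.repr.toEquiv.nontrivial
  haveI : Module.FaithfullyFlat R (QRing h b) := inferInstance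
  exact ⟨(IsFinite.SpecMap_iff _).2 (RingHom.finite_algebraMap.2 inferInstance),
    Flat.SpecMap_iff.2 (RingHom.flat_algebraMap_iff.2 inferInstance),
    ⟨PrimeSpectrum.comap_surjective_of_faithfullyFlat (A := R) (B := QRing h b)⟩,
    (HasRingHomProperty.Spec_iff (P := @LocallyOfFinitePresentation)).2 (RingHom.finitePresentation_algebraMap.2 ‹_›)⟩

theorem exists_torsor [IsDomain R] (hlam : lam ≠ 0) (hN : 0 < N) (hc : IsUnit (1 + lam ^ N * b)) :
    ∃ a : AlgGrp.Action (SekSuwa.GK R lam N h) (QObj h b), NonAbH1.IsTorsorFor Scheme.fppfPrecoverage a ∧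
      ∀ (T : Over (Spec (CommRingCat.of R))) (g : T ⟶ SekSuwa.GK R lam N h) (x : T ⟶ QObj h b),
        rv (lift g x ≫ a.act) = tv g + rv x + str T lam * tv g * rv x := by
  obtain ⟨a, ha⟩ := exists_act (h := h) (b := b) hN
  obtain ⟨-, hf, hs, hp⟩ := model_props (h := h) (b := b) hlam hN
  refine ⟨a, ⟨isPseudoTorsor hN hc a ha, Presieve.singleton (QObj h b).hom,
    (Scheme.singleton_mem_precoverage_iff (@Flat ⊓ @LocallyOfFinitePresentation) _).2
      ⟨fun s => hs.surj s, hf, hp⟩, ?_⟩, ha⟩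
  intro S' g hg
  obtain ⟨⟩ := hg
  exact ⟨𝟙 _, Category.id_comp _⟩

end Groth.Agent.GKTorsorLib
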