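import Mathlib
import Groth.Prelude.Def_SekSuwa2
import Groth.Agent.GaPoints.Basic

/-! Points of affine schemes and of affine groups over an affine base, as functions. -/

set_option autoImplicit false
set_option linter.all false
set_option backward.isDefEq.respectTransparency false
set_option backward.isDefEq.respectTransparency.types false

universe u
open CategoryTheory Limits MonoidalCategory CartesianMonoidalCategory MonObj AlgebraicGeometry
open scoped TensorProduct

noncomputable section

namespace Groth.Agent.GKTorsorLib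

open Groth.Agent.GaPoints (ringMap exists_ringMap ringMap_comp_SpecMap ringMap_injective)

variable {R : Type u} [CommRing R]

abbrev Aff (R : Type u) [CommRing R] (C : Type u) [CommRing C] [Algebra R C] : Over (Spec (CommRingCat.of R)) :=
  (Spec (CommRingCat.of C)).asOver (Spec (CommRingCat.of R))

/-- Constants. -/
def str (T : Over (Spec (CommRingCat.of R))) : R →+* Γ(T.left, ⊤) := ringMap (R := CommRingCat.of R) T.hom

variable {C : Type u} [CommRing C] [Algebra R C] {T T' : Over (Spec (CommRingCat.of R))}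

/-- The value of a point. -/
def val (x : T ⟶ Aff R C) : C →+* Γ(T.left, ⊤) := ringMap (R := CommRingCat.of C) x.left

theorem val_algebraMap (x : T ⟶ Aff R C) (r : R) : val x (algebraMap R C r) = str T r := by
  have e : x.left ≫ Spec.map (CommRingCat.ofHom (algebraMap R C)) = T.hom := Over.w x
  rw [str, ← e, ringMap_comp_SpecMap]
  rfl

theorem exists_pt (φ : C →+* Γ(T.left, ⊤)) (hφ : ∀ r, φ (algebraMap R C r) = str T r) :
    ∃ x : T ⟶ Aff R C, val x = φ := by
  obtain ⟨q, hq⟩ := exists_ringMap (R := CommRingCat.of C) φ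
  have hw : q ≫ Spec.map (CommRingCat.ofHom (algebraMap R C)) = T.hom :=
    ringMap_injective (RingHom.ext fun r => by
      rw [ringMap_comp_SpecMap, hq]
      exact hφ r)
  exact ⟨Over.homMk q hw, hq⟩

theorem pt_ext {x y : T ⟶ Aff R C} (h : val x = val y) : x = y :=
  Over.OverMorphism.ext (ringMap_injective h)

theorem val_comp (p : T' ⟶ T) (x : T ⟶ Aff R C) (c : C) : val (p ≫ x) c = p.left.appTop (val x c) := by
  simp [val, ringMap]

theorem str_comp (p : T' ⟶ T) (r : R) : p.left.appTop (str T r) = str T' r := by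
  simp only [str, ← Over.w p, ringMap, Scheme.Hom.comp_appTop]
  rfl

theorem exists_mul_val {H : Type u} [CommRing H] [HopfAlgebra R H] (x y : T ⟶ Aff R H) :
    ∃ m : H ⊗[R] H →+* Γ(T.left, ⊤), (∀ a, m (a ⊗ₜ 1) = val x a) ∧ (∀ a, m (1 ⊗ₜ a) = val y a) ∧
      ∀ c, val (x * y) c = m (Bialgebra.comulAlgHom R H c) := by
  let j₁ : CommRingCat.of H ⟶ CommRingCat.of (H ⊗[R] H) :=
    CommRingCat.ofHom Algebra.TensorProduct.includeLeftRingHom
  let j₂ : CommRingCat.of H ⟶ CommRingCat.of (H ⊗[R] H) :=
    CommRingCat.ofHom (R := H) (S := H ⊗[R] H)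
      (RingHomClass.toRingHom (Algebra.TensorProduct.includeRight : H →ₐ[R] H ⊗[R] H))
  let m : T.left ⟶ Spec (CommRingCat.of (H ⊗[R] H)) :=
    (CartesianMonoidalCategory.lift x y).left ≫ (pullbackSpecIso R H H).hom
  have h₁ : m ≫ Spec.map j₁ = x.left := by
    simp only [m, j₁, Category.assoc]
    erw [pullbackSpecIso_hom_fst]
    simp
    exact pullback.lift_fst _ _ _
  have h₂ : m ≫ Spec.map j₂ = y.left := by
    simp only [m, j₂, Category.assoc]
    erw [pullbackSpecIso_hom_snd]
    simp
    exact pullback.lift_snd _ _ _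
  have h₀ : (x * y).left = m ≫ Spec.map (CommRingCat.ofHom (Bialgebra.comulAlgHom R H).toRingHom) := by
    rw [Hom.mul_def, Over.comp_left]
    erw [mul_spec_asOver_spec_left]
    simp [m]
  refine ⟨ringMap (R := CommRingCat.of (H ⊗[R] H)) m, fun a => ?_, fun a => ?_, fun c => ?_⟩
  · rw [val, ← h₁, ringMap_comp_SpecMap]; rfl
  · rw [val, ← h₂, ringMap_comp_SpecMap]; rfl
  · rw [val, h₀, ringMap_comp_SpecMap]; rfl

theorem val_mul_groupLike {H : Type u} [CommRing H] [HopfAlgebra R H] (x y : T ⟶ Aff R H) (c : H)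
    (hc : Bialgebra.comulAlgHom R H c = c ⊗ₜ c) : val (x * y) c = val x c * val y c := by
  obtain ⟨m, h1, h2, h3⟩ := exists_mul_val x y
  rw [h3, hc, ← h1, ← h2, ← map_mul, Algebra.TensorProduct.tmul_mul_tmul, _root_.mul_one, _root_.one_mul]

theorem val_mul_twisted {H : Type u} [CommRing H] [HopfAlgebra R H] (x y : T ⟶ Aff R H) (c : H) (l : R)
    (hc : Bialgebra.comulAlgHom R H c = c ⊗ₜ 1 + 1 ⊗ₜ c + l • (c ⊗ₜ c)) :
    val (x * y) c = val x c + val y c + str T l * val x c * val y c := by
  obtain ⟨m, h1, h2, h3⟩ := exists_mul_val x y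
  have hl : m (algebraMap R (H ⊗[R] H) l) = str T l := by
    rw [Algebra.TensorProduct.algebraMap_apply, h1, val_algebraMap]
  rw [h3, hc, Algebra.smul_def, map_add, map_add, map_mul, hl, h1, h2, _root_.mul_assoc, ← h1, ← h2, ← map_mul,
    Algebra.TensorProduct.tmul_mul_tmul, _root_.mul_one, _root_.one_mul]

end Groth.Agent.GKTorsorLib
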